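import Mathlib
import Cfsg.Agent.H198.FC.Defs
import Cfsg.Agent.H319.FC.Defs
import Cfsg.Agent.ClassicalGeometry.SympAutTwo
import Cfsg.Agent.ClassicalGeometry.SympAutExists

/-!
# S5764, SP4G: abstract part

The group `G = Sp_4(F)`, `F` finite of characteristic two; the isomorphism with `PSp_4(F)`; the index of the semilinear
automorphisms; reduction to three inner conjugates; `S ∩ Inn = 1`; existence of an invariant elementary abelian subgroup.
-/

set_option autoImplicit false

namespace Cfsg.Agent.H319.FC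

open Cfsg
open Cfsg.Agent.ClassicalGeometry.SympBasic Cfsg.Agent.ClassicalGeometry.SympAutSemi
open Cfsg.Agent.ClassicalGeometry.Sp4Graph Cfsg.Agent.ClassicalGeometry.Sp4GraphAut
open scoped commutatorElement

universe u

/-! ### Abstract group theory -/

section Abstract

variable {G : Type u} [Group G]

/-- conjugation of an inner automorphism -/
theorem aut_conj (α : MulAut G) (x : G) : α * MulAut.conj x * α⁻¹ = MulAut.conj (α x) := by
  ext y
  change α (x * α⁻¹ y * x⁻¹) = α x * y * (α x)⁻¹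
  rw [map_mul, map_mul, map_inv]
  congr 2
  exact α.apply_symm_apply y

theorem conj_comm (α : MulAut G) (x : G) :
    MulAut.conj x * α * (MulAut.conj x)⁻¹ = MulAut.conj (x * (α x)⁻¹) * α := by
  have h := aut_conj α x
  have h2 : α * (MulAut.conj x)⁻¹ = (MulAut.conj (α x))⁻¹ * α := by
    rw [← h]; group
  rw [mul_assoc, h2, ← mul_assoc, map_mul, map_inv]

theorem conj_mem_iff {S : Subgroup (MulAut G)} {α : MulAut G} (hα : α ∈ S) (x : G) :
    MulAut.conj x * α * (MulAut.conj x)⁻¹ ∈ S ↔ MulAut.conj (x * (α x)⁻¹) ∈ S := by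
  rw [conj_comm]
  exact Subgroup.mul_mem_cancel_right S hα

theorem conj_eq_one (hZ : Subgroup.center G = ⊥) {x : G} (h : MulAut.conj x = 1) : x = 1 := by
  have h1 : x ∈ Subgroup.center G := by
    rw [Subgroup.mem_center_iff]
    intro g
    have h2 : MulAut.conj x g = g := by rw [h]; rfl
    rw [MulAut.conj_apply] at h2
    calc g * x = (x * g * x⁻¹) * x := by rw [h2]
      _ = x * g := by group
  rwa [hZ, Subgroup.mem_bot] at h1

/-- If `S` contains no inner automorphism: common elements of `S` and its conjugate fix `x`. -/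
theorem fix_of_trivial {S : Subgroup (MulAut G)}
    (h0 : ∀ x : G, MulAut.conj x ∈ S → x = 1) {α : MulAut G} (hα : α ∈ S) {x : G}
    (h : MulAut.conj x * α * (MulAut.conj x)⁻¹ ∈ S) : α x = x := by
  have h1 := h0 _ ((conj_mem_iff hα x).1 h)
  exact (mul_inv_eq_one.1 h1).symm

/-- A solvable `S` cannot contain all conjugates of a nontrivial element. -/
theorem exists_conj_notMem [IsSimpleGroup G] (hns : ¬ Group.IsSolvable G) (hZ : Subgroup.center G = ⊥)
    {S : Subgroup (MulAut G)} (hS : Group.IsSolvable S) {α : MulAut G} (hα : α ∈ S) (hα1 : α ≠ 1) :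
    ∃ y : G, MulAut.conj y * α * (MulAut.conj y)⁻¹ ∉ S := by
  by_contra hcon
  push Not at hcon
  have h1 : ∀ y : G, MulAut.conj (y * (α y)⁻¹) ∈ S := fun y => (conj_mem_iff hα y).1 (hcon y)
  let N : Subgroup G := Subgroup.closure (Set.range fun y : G => y * (α y)⁻¹)
  have hN : N.Normal := by
    refine ⟨fun n hn z => ?_⟩
    induction hn using Subgroup.closure_induction with
    | mem x hx =>
      obtain ⟨y, rfl⟩ := hx
      have h2 : z * (y * (α y)⁻¹) * z⁻¹ = ((z * y) * (α (z * y))⁻¹) * (z * (α z)⁻¹)⁻¹ := by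
        rw [map_mul]; group
      change z * (y * (α y)⁻¹) * z⁻¹ ∈ N
      rw [h2]
      exact mul_mem (Subgroup.subset_closure ⟨z * y, rfl⟩) (inv_mem (Subgroup.subset_closure ⟨z, rfl⟩))
    | one => simp
    | mul x y _ _ hx hy =>
      have h2 : z * (x * y) * z⁻¹ = (z * x * z⁻¹) * (z * y * z⁻¹) := by group
      rw [h2]; exact mul_mem hx hy
    | inv x _ hx =>
      have h2 : z * x⁻¹ * z⁻¹ = (z * x * z⁻¹)⁻¹ := by group
      rw [h2]; exact inv_mem hx
  rcases hN.eq_bot_or_eq_top with h | h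
  · apply hα1
    ext y
    have h3 : y * (α y)⁻¹ ∈ N := Subgroup.subset_closure ⟨y, rfl⟩
    rw [h, Subgroup.mem_bot] at h3
    exact (mul_inv_eq_one.1 h3).symm
  · have h4 : ∀ x : G, MulAut.conj x ∈ S := by
      intro x
      have hx : x ∈ N := by rw [h]; trivial
      have hle : N ≤ S.comap MulAut.conj := by
        rw [Subgroup.closure_le]
        rintro _ ⟨y, rfl⟩
        exact h1 y
      exact hle hx
    let f : G →* S :=
      { toFun := fun x => ⟨MulAut.conj x, h4 x⟩
        map_one' := by ext1; exact map_one _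
        map_mul' := fun x y => by ext1; exact map_mul _ x y }
    have hf : Function.Injective f := by
      rw [injective_iff_map_eq_one]
      intro x hx
      exact conj_eq_one hZ (congrArg Subtype.val hx)
    exact hns (Group.isSolvable_of_isSolvable_injective hf)

/-- **Reduction to three conjugates of the part in a subgroup `P` of index two.** -/
theorem four_of_three [IsSimpleGroup G] (hns : ¬ Group.IsSolvable G) (hZ : Subgroup.center G = ⊥)
    (P : Subgroup (MulAut G)) (hP : P.index = 2) {S : Subgroup (MulAut G)} (hS : Group.IsSolvable S)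
    (x : Fin 3 → G)
    (hx : ∀ α ∈ S, α ∈ P → (∀ i, MulAut.conj (x i) * α * (MulAut.conj (x i))⁻¹ ∈ S) → α = 1) :
    Five4 S := by
  by_cases hex : ∃ α ∈ S, (∀ i, MulAut.conj (x i) * α * (MulAut.conj (x i))⁻¹ ∈ S) ∧ α ≠ 1
  · obtain ⟨α₀, hα₀, hi₀, h1⟩ := hex
    obtain ⟨y, hy⟩ := exists_conj_notMem hns hZ hS hα₀ h1
    have hα₀P : α₀ ∉ P := fun h => h1 (hx α₀ hα₀ h hi₀)
    refine ⟨Fin.snoc x y, fun α hα hi => ?_⟩
    have hi' : ∀ i, MulAut.conj (x i) * α * (MulAut.conj (x i))⁻¹ ∈ S := fun i => by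
      have := hi (Fin.castSucc i)
      rwa [Fin.snoc_castSucc (α := fun _ => G)] at this
    have hy' : MulAut.conj y * α * (MulAut.conj y)⁻¹ ∈ S := by
      have := hi (Fin.last 3)
      rwa [Fin.snoc_last (α := fun _ => G)] at this
    by_cases hαP : α ∈ P
    · exact hx α hα hαP hi'
    · exfalso
      have h2 : α * α₀⁻¹ ∈ P := by
        rw [Subgroup.mul_mem_iff_of_index_two hP, inv_mem_iff]
        exact ⟨fun h => absurd h hαP, fun h => absurd h hα₀P⟩
      have h3 : α * α₀⁻¹ = 1 := by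
        refine hx _ (mul_mem hα (inv_mem hα₀)) h2 fun i => ?_
        have h4 : MulAut.conj (x i) * (α * α₀⁻¹) * (MulAut.conj (x i))⁻¹ =
            (MulAut.conj (x i) * α * (MulAut.conj (x i))⁻¹) *
              (MulAut.conj (x i) * α₀ * (MulAut.conj (x i))⁻¹)⁻¹ := by group
        rw [h4]
        exact mul_mem (hi' i) (inv_mem (hi₀ i))
      rw [mul_inv_eq_one] at h3
      rw [h3] at hy'
      exact hy hy'
  · push Not at hex
    refine ⟨Fin.snoc x 1, fun α hα hi => hex α hα fun i => ?_⟩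
    have := hi (Fin.castSucc i)
    rwa [Fin.snoc_castSucc (α := fun _ => G)] at this

/-- The case where no involution lies outside `P`. -/
theorem four_of_four (P : Subgroup (MulAut G)) (hP : P.index = 2)
    (hinv : ∀ α : MulAut G, α ∉ P → α * α ≠ 1) {S : Subgroup (MulAut G)}
    (hx : Five4 (S ⊓ P)) : Five4 S := by
  obtain ⟨x, hx⟩ := hx
  have hPn : P.Normal := Subgroup.normal_of_index_eq_two hP
  have hmem : ∀ (β : MulAut G) (y : G), β ∈ P → MulAut.conj y * β * (MulAut.conj y)⁻¹ ∈ P :=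
    fun β y hβ => hPn.conj_mem β hβ _
  have hsq : ∀ α : MulAut G, α * α ∈ P := fun α => by
    rw [← sq]; exact Subgroup.sq_mem_of_index_two hP α
  refine ⟨x, fun α hα hi => ?_⟩
  have h1 : α * α = 1 := by
    refine hx _ ⟨mul_mem hα hα, hsq α⟩ fun i => ⟨?_, hmem _ _ (hsq α)⟩
    have h4 : MulAut.conj (x i) * (α * α) * (MulAut.conj (x i))⁻¹ =
        (MulAut.conj (x i) * α * (MulAut.conj (x i))⁻¹) *
          (MulAut.conj (x i) * α * (MulAut.conj (x i))⁻¹) := by group
    rw [h4]
    exact mul_mem (hi i) (hi i)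
  have h2 : α ∈ P := by
    by_contra h
    exact hinv α h h1
  exact hx α ⟨hα, h2⟩ fun i => ⟨hi i, hmem _ _ h2⟩

/-- An invariant elementary abelian subgroup. -/
theorem exists_elab [Finite G] {S : Subgroup (MulAut G)} (hS : Group.IsSolvable S) (hZ : Subgroup.center G = ⊥)
    (hne : ∃ x : G, MulAut.conj x ∈ S ∧ x ≠ 1) :
    ∃ (r : ℕ) (A : Subgroup G), r.Prime ∧ A ≠ ⊥ ∧ (∀ a ∈ A, MulAut.conj a ∈ S) ∧
      (∀ a ∈ A, ∀ b ∈ A, a * b = b * a) ∧ (∀ a ∈ A, a ^ r = 1) ∧ ∀ α ∈ S, ∀ a ∈ A, α a ∈ A := by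
  classical
  -- a minimal nontrivial invariant subgroup
  let M : Subgroup G := S.comap MulAut.conj
  have hinvM : ∀ α ∈ S, ∀ a ∈ M, α a ∈ M := by
    intro α hα a ha
    change MulAut.conj (α a) ∈ S
    rw [← aut_conj]
    exact mul_mem (mul_mem hα ha) (inv_mem hα)
  let Q : Set (Subgroup G) := {B | B ≠ ⊥ ∧ B ≤ M ∧ ∀ α ∈ S, ∀ a ∈ B, α a ∈ B}
  have hQ : Q.Nonempty := by
    obtain ⟨x, hx, hx1⟩ := hne
    refine ⟨M, fun h => hx1 ?_, le_refl _, hinvM⟩
    have : x ∈ M := hx
    rwa [h, Subgroup.mem_bot] at this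
  obtain ⟨B, hB⟩ := Set.Finite.exists_minimal (Set.toFinite Q) hQ
  obtain ⟨⟨hB1, hBM, hBinv⟩, hBmin⟩ := hB
  -- `B` is abelian
  have hBs : Group.IsSolvable B := by
    have h4 : ∀ x ∈ B, MulAut.conj x ∈ S := fun x hx => hBM hx
    let f : B →* S :=
      { toFun := fun x => ⟨MulAut.conj x.1, h4 x.1 x.2⟩
        map_one' := by ext1; exact map_one _
        map_mul' := fun x y => by ext1; exact map_mul _ x.1 y.1 }
    have hf : Function.Injective f := by
      rw [injective_iff_map_eq_one]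
      intro x hx
      exact Subtype.ext (conj_eq_one hZ (congrArg Subtype.val hx))
    exact Group.isSolvable_of_isSolvable_injective hf
  have hcomm : ⁅B, B⁆ = (⊥ : Subgroup G) := by
    by_contra hne'
    have h1 : ⁅B, B⁆ ≤ B := Subgroup.commutator_le.2 fun x hx y hy => by
      rw [commutatorElement_def]
      exact mul_mem (mul_mem (mul_mem hx hy) (inv_mem hx)) (inv_mem hy)
    have h2 : ⁅B, B⁆ ∈ Q := by
      refine ⟨hne', h1.trans hBM, fun α hα a ha => ?_⟩
      have h3 : (⁅B, B⁆).map α.toMonoidHom ≤ ⁅B, B⁆ := by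
        rw [Subgroup.map_commutator]
        have h4 : B.map α.toMonoidHom ≤ B := by
          rintro _ ⟨b, hb, rfl⟩
          exact hBinv α hα b hb
        exact Subgroup.commutator_mono h4 h4
      exact h3 ⟨a, ha, rfl⟩
    have h3 : B ≤ ⁅B, B⁆ := hBmin h2 h1
    have h5 : ⁅B, B⁆ = B := le_antisymm h1 h3
    -- then `B` is perfect and solvable
    have h6 : ∀ n, (derivedSeries B n).map B.subtype = B := by
      intro n
      induction n with
      | zero => rw [derivedSeries_zero, ← MonoidHom.range_eq_map, Subgroup.range_subtype]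
      | succ n ih => rw [derivedSeries_succ, Subgroup.map_commutator, ih, h5]
    obtain ⟨n, hn⟩ := hBs.solvable
    have h7 := h6 n
    rw [hn, Subgroup.map_bot] at h7
    exact hB1 h7.symm
  have hab : ∀ a ∈ B, ∀ b ∈ B, a * b = b * a := by
    intro a ha b hb
    have h1 : ⁅a, b⁆ ∈ ⁅B, B⁆ := Subgroup.commutator_mem_commutator ha hb
    rw [hcomm, Subgroup.mem_bot, commutatorElement_eq_one_iff_mul_comm] at h1
    exact h1
  -- a prime dividing `|B|`
  have hcard : Nat.card B ≠ 1 := fun h => hB1 ((Subgroup.card_eq_one).1 h)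
  obtain ⟨r, hr, hrd⟩ := Nat.exists_prime_and_dvd hcard
  have : Fact r.Prime := ⟨hr⟩
  obtain ⟨b, hb⟩ := exists_prime_orderOf_dvd_card' r hrd
  let A : Subgroup G :=
    { carrier := {a | a ∈ B ∧ a ^ r = 1}
      mul_mem' := by
        rintro a c ⟨ha, ha'⟩ ⟨hc, hc'⟩
        refine ⟨mul_mem ha hc, ?_⟩
        rw [(show Commute a c from hab a ha c hc).mul_pow, ha', hc', one_mul]
      one_mem' := ⟨one_mem _, one_pow _⟩
      inv_mem' := by
        rintro a ⟨ha, ha'⟩
        exact ⟨inv_mem ha, by rw [inv_pow, ha', inv_one]⟩ }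
  refine ⟨r, A, hr, ?_, fun a ha => hBM ha.1, fun a ha c hc => hab a ha.1 c hc.1, fun a ha => ha.2, ?_⟩
  · intro h
    have h1 : b.1 ∈ A := ⟨b.2, by
      have := pow_orderOf_eq_one b
      rw [hb] at this
      exact congrArg Subtype.val this⟩
    rw [h, Subgroup.mem_bot] at h1
    have h2 : b = 1 := Subtype.ext h1
    rw [h2, orderOf_one] at hb
    exact hr.one_lt.ne hb
  · rintro α hα a ⟨ha, ha'⟩
    exact ⟨hBinv α hα a ha, by rw [← map_pow, ha', map_one]⟩

end Abstract

end Cfsg.Agent.H319.FC
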