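import Mathlib
import Cfsg.Agent.H319.FC.Base
import Cfsg.Agent.S0270

/-!
# S5764, SP4G: semilinear part

`G = Sp_4(F)`, `F` finite of characteristic two, `|F| ≥ 4`; `P = (conjHom 2 F).range`.
-/

set_option autoImplicit false

namespace Cfsg.Agent.H319.FC

open Cfsg
open Cfsg.Agent.ClassicalGeometry.SympBasic Cfsg.Agent.ClassicalGeometry.SympAutSemi
open Cfsg.Agent.ClassicalGeometry.Sp4Graph Cfsg.Agent.ClassicalGeometry.Sp4GraphAut
open scoped Matrix

universe u

variable {F : Type u} [Field F]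

/-! ### The isomorphism with `PSp_4(F)` -/

section Iso

variable [CharP F 2]

variable (F) in
/-- `Sp_4(F) ≅ PSp_4(F)` in characteristic two. -/
noncomputable def mkE : Sp4 F ≃* PSp 2 F :=
  MulEquiv.ofBijective (QuotientGroup.mk' (Subgroup.center (Sp4 F)))
    ⟨fun _ _ h => mk_injective (by norm_num) h, QuotientGroup.mk'_surjective _⟩

theorem mkE_apply (A : Sp4 F) : mkE F A = QuotientGroup.mk A := rfl

variable (F) in
/-- the induced isomorphism of automorphism groups -/
noncomputable def congE : MulAut (Sp4 F) ≃* MulAut (PSp 2 F) := MulAut.congr (mkE F)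

theorem congE_apply (α : MulAut (Sp4 F)) (x : PSp 2 F) : congE F α x = mkE F (α ((mkE F).symm x)) := rfl

theorem congE_mk (α : MulAut (Sp4 F)) (A : Sp4 F) : congE F α (mkE F A) = mkE F (α A) := by
  rw [congE_apply, MulEquiv.symm_apply_apply]

theorem congE_conj (A : Sp4 F) : congE F (MulAut.conj A) = MulAut.conj (mkE F A) := by
  ext x
  obtain ⟨B, rfl⟩ := (mkE F).surjective x
  rw [congE_mk, MulAut.conj_apply, MulAut.conj_apply, map_mul, map_mul, map_inv]

theorem congE_conjHom (g : semiSim 2 F) : congE F (conjHom 2 F g) = Psi 2 F g := by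
  ext x
  obtain ⟨B, rfl⟩ := (mkE F).surjective x
  rw [congE_mk, mkE_apply, mkE_apply, Psi_mk]

theorem congE_mem_range (α : MulAut (Sp4 F)) : congE F α ∈ (Psi 2 F).range ↔ α ∈ (conjHom 2 F).range := by
  constructor
  · rintro ⟨g, hg⟩
    refine ⟨g, (congE F).injective ?_⟩
    rw [congE_conjHom, hg]
  · rintro ⟨g, rfl⟩
    exact ⟨g, (congE_conjHom g).symm⟩

theorem range_eq_comap : (conjHom 2 F).range = (Psi 2 F).range.comap (congE F).toMonoidHom := by
  ext α
  rw [Subgroup.mem_comap]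
  exact (congE_mem_range α).symm

variable [Finite F]

theorem exists_t (hq : 4 ≤ Nat.card F) : ∃ t : F, t ≠ 0 ∧ t ≠ 1 := by
  by_contra hcon
  push Not at hcon
  have : Fintype F := Fintype.ofFinite F
  rw [Nat.card_eq_fintype_card] at hq
  have h3 : Fintype.card F ≤ 2 := by
    classical
    have : (Finset.univ : Finset F) ⊆ {0, 1} := by
      intro t _
      by_cases h0 : t = 0
      · simp [h0]
      · simp [hcon t h0]
    exact (Finset.card_le_card this).trans (Finset.card_le_two)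
  omega

theorem index_Psi (hq : 4 ≤ Nat.card F) : (Psi 2 F).range.index = 2 := by
  refine Cfsg.Agent.ClassicalGeometry.SympAutTwo.index_two (exists_t hq) ?_
  intro α hα
  obtain ⟨g, hg⟩ := Cfsg.Agent.ClassicalGeometry.SympAutExists.exists_semi (le_refl 2) α hα
  exact ⟨g, hg⟩

theorem index_P (hq : 4 ≤ Nat.card F) : (conjHom 2 F).range.index = 2 := by
  rw [range_eq_comap, Subgroup.index_comap_of_surjective _ (congE F).surjective, index_Psi hq]

theorem simple_psp (hq : 4 ≤ Nat.card F) : IsSimpleGroup (PSp 2 F) := by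
  have : Fintype F := Fintype.ofFinite F
  rw [Nat.card_eq_fintype_card] at hq
  exact Cfsg.Agent.S0270.result 2 le_rfl fun _ => by omega

theorem simple_sp (hq : 4 ≤ Nat.card F) : IsSimpleGroup (Sp4 F) := by
  have := simple_psp hq
  exact (mkE F).isSimpleGroup

theorem center_sp : Subgroup.center (Sp4 F) = ⊥ := center_eq_bot (by norm_num)

theorem not_solvable_sp (hq : 4 ≤ Nat.card F) : ¬ Group.IsSolvable (Sp4 F) := by
  intro hs
  have := simple_sp hq
  have h1 : ∀ a b : Sp4 F, a * b = b * a := IsSimpleGroup.comm_iff_isSolvable.2 hs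
  have h2 : Subgroup.center (Sp4 F) = ⊤ := by
    rw [Subgroup.eq_top_iff']
    intro x
    rw [Subgroup.mem_center_iff]
    exact fun g => h1 g x
  rw [center_sp] at h2
  exact bot_ne_top h2

/-- the graph automorphism is not semilinear -/
theorem graph_notMem : (graphEquiv F : MulAut (Sp4 F)) ∉ (conjHom 2 F).range := by
  rintro ⟨g, hg⟩
  obtain ⟨φ, l, hl, hs⟩ := g.2
  have h1 : conjHom 2 F g (transv (e1 F) 1) = S 1 := by
    rw [hg]
    exact graphHom_transv 1
  rw [conjHom_transv g hl hs] at h1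
  exact S_ne_transv one_ne_zero _ _ h1.symm

/-- an automorphism outside `P` -/
theorem exists_graph (hq : 4 ≤ Nat.card F) {α : MulAut (Sp4 F)} (hα : α ∉ (conjHom 2 F).range) :
    ∃ k : semiSim 2 F, α = conjHom 2 F k * graphEquiv F := by
  have h1 : α * (graphEquiv F : MulAut (Sp4 F))⁻¹ ∈ (conjHom 2 F).range := by
    rw [Subgroup.mul_mem_iff_of_index_two (index_P hq), inv_mem_iff]
    exact ⟨fun h => absurd h hα, fun h => absurd h graph_notMem⟩
  obtain ⟨k, hk⟩ := h1
  exact ⟨k, by rw [hk, inv_mul_cancel_right]⟩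

end Iso

/-! ### Coordinates -/

section Coord

variable (F) in
/-- third basis vector -/
def f1 : V4 F := Pi.single (Sum.inr 0) 1

variable (F) in
/-- fourth basis vector -/
def f2 : V4 F := Pi.single (Sum.inr 1) 1

theorem decomp4 (x : V4 F) : x = x (.inl 0) • e1 F + x (.inl 1) • e2 F + x (.inr 0) • f1 F + x (.inr 1) • f2 F := by
  ext i
  rcases i with i | i <;> fin_cases i <;> simp [e1, e2, f1, f2]

theorem rho_add (A : Sp4 F) (u v : V4 F) : rho 2 F A (u + v) = rho 2 F A u + rho 2 F A v := (isSemi_rho A).1 u v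

theorem rho_smul (A : Sp4 F) (a : F) (v : V4 F) : rho 2 F A (a • v) = a • rho 2 F A v := (isSemi_rho A).2.1 a v

/-- a linear map with given images of the basis -/
def lin4 (a b c d : V4 F) : V4 F →ₗ[F] V4 F where
  toFun x := x (.inl 0) • a + x (.inl 1) • b + x (.inr 0) • c + x (.inr 1) • d
  map_add' x y := by
    simp only [Pi.add_apply, add_smul]
    abel
  map_smul' r x := by
    simp only [Pi.smul_apply, smul_eq_mul, RingHom.id_apply, smul_add, mul_smul]

/-- a symplectic matrix with given images of the basis -/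
theorem exists_sp [CharP F 2] {a b c d : V4 F} (hab : sympForm 2 F a b = 0) (hac : sympForm 2 F a c = 1)
    (had : sympForm 2 F a d = 0) (hbc : sympForm 2 F b c = 0) (hbd : sympForm 2 F b d = 1)
    (hcd : sympForm 2 F c d = 0) :
    ∃ A : Sp4 F, ∀ x : V4 F, rho 2 F A x = x (.inl 0) • a + x (.inl 1) • b + x (.inr 0) • c + x (.inr 1) • d := by
  have hn : ∀ y : F, -y = y := fun y => CharTwo.neg_eq y
  have hL : ∀ x, LinearMap.toMatrix' (lin4 a b c d) *ᵥ x =
      x (.inl 0) • a + x (.inl 1) • b + x (.inr 0) • c + x (.inr 1) • d := fun x => by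
    rw [LinearMap.toMatrix'_mulVec]
    rfl
  have hba : sympForm 2 F b a = 0 := by rw [sympForm_swap, hab, neg_zero]
  have hca : sympForm 2 F c a = 1 := by rw [sympForm_swap, hac, hn]
  have hda : sympForm 2 F d a = 0 := by rw [sympForm_swap, had, neg_zero]
  have hcb : sympForm 2 F c b = 0 := by rw [sympForm_swap, hbc, neg_zero]
  have hdb : sympForm 2 F d b = 1 := by rw [sympForm_swap, hbd, hn]
  have hdc : sympForm 2 F d c = 0 := by rw [sympForm_swap, hcd, neg_zero]
  refine ⟨⟨LinearMap.toMatrix' (lin4 a b c d), ?_⟩, hL⟩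
  rw [mem_symplecticGroup_iff]
  intro u v
  rw [hL, hL, sympForm_eq u v]
  simp only [sympForm_add_left, sympForm_add_right, sympForm_smul_left, sympForm_smul_right, sympForm_self, hab, hac,
    had, hbc, hbd, hcd, hba, hca, hda, hcb, hdb, hdc]
  ring

theorem form_e1_f1 [CharP F 2] : sympForm 2 F (e1 F) (f1 F) = 1 := by
  rw [sympForm_eq]; simp [e1, f1]

theorem form_e2_f2 [CharP F 2] : sympForm 2 F (e2 F) (f2 F) = 1 := by
  rw [sympForm_eq]; simp [e2, f2]

theorem form_e1_f2 [CharP F 2] : sympForm 2 F (e1 F) (f2 F) = 0 := by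
  rw [sympForm_eq]; simp [e1, f2]

theorem form_e2_f1 [CharP F 2] : sympForm 2 F (e2 F) (f1 F) = 0 := by
  rw [sympForm_eq]; simp [e2, f1]

theorem form_e1_e2 [CharP F 2] : sympForm 2 F (e1 F) (e2 F) = 0 := by
  rw [sympForm_eq]; simp [e1, e2]

theorem form_f1_f2 [CharP F 2] : sympForm 2 F (f1 F) (f2 F) = 0 := by
  rw [sympForm_eq]; simp [f1, f2]

/-- `Sp_4` is transitive on pairs of independent orthogonal vectors. -/
theorem exists_ti [CharP F 2] {v b : V4 F} (hv : v ≠ 0) (hb : ∀ a : F, b ≠ a • v) (hvb : sympForm 2 F v b = 0) :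
    ∃ h : Sp4 F, rho 2 F h (e1 F) = v ∧ rho 2 F h (e2 F) = b := by
  have hn : ∀ y : F, -y = y := fun y => CharTwo.neg_eq y
  have hb0 : b ≠ 0 := fun h => hb 0 (by rw [h, zero_smul])
  have hv' : ∀ a : F, v ≠ a • b := by
    intro a ha
    have ha0 : a ≠ 0 := by
      rintro rfl
      exact hv (by rw [ha, zero_smul])
    exact hb a⁻¹ (by rw [ha, smul_smul, inv_mul_cancel₀ ha0, one_smul])
  obtain ⟨x, hx1, hx2⟩ := Cfsg.Agent.LieClassical.SympSimple.exists_perp_of_not_smul hb0 hv'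
  obtain ⟨y, hy1, hy2⟩ := Cfsg.Agent.LieClassical.SympSimple.exists_perp_of_not_smul hv hb
  -- `c = x / f(v, x)`, `d₀ = y / f(b, y)`, `d = d₀ + f(c, d₀) v`
  obtain ⟨c, hc⟩ : ∃ c, c = (sympForm 2 F v x)⁻¹ • x := ⟨_, rfl⟩
  obtain ⟨d₀, hd₀⟩ : ∃ d₀, d₀ = (sympForm 2 F b y)⁻¹ • y := ⟨_, rfl⟩
  obtain ⟨d, hd⟩ : ∃ d, d = d₀ + sympForm 2 F c d₀ • v := ⟨_, rfl⟩
  have hac : sympForm 2 F v c = 1 := by rw [hc, sympForm_smul_right, inv_mul_cancel₀ hx2]
  have hbc : sympForm 2 F b c = 0 := by rw [hc, sympForm_smul_right, hx1, mul_zero]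
  have had₀ : sympForm 2 F v d₀ = 0 := by rw [hd₀, sympForm_smul_right, hy1, mul_zero]
  have hbd₀ : sympForm 2 F b d₀ = 1 := by rw [hd₀, sympForm_smul_right, inv_mul_cancel₀ hy2]
  have hbv : sympForm 2 F b v = 0 := by rw [sympForm_swap, hvb, neg_zero]
  have hcv : sympForm 2 F c v = 1 := by rw [sympForm_swap, hac, hn]
  have had : sympForm 2 F v d = 0 := by
    rw [hd, sympForm_add_right, sympForm_smul_right, sympForm_self, had₀, mul_zero, add_zero]
  have hbd : sympForm 2 F b d = 1 := by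
    rw [hd, sympForm_add_right, sympForm_smul_right, hbv, hbd₀, mul_zero, add_zero]
  have hcd : sympForm 2 F c d = 0 := by
    rw [hd, sympForm_add_right, sympForm_smul_right, hcv, mul_one]
    exact CharTwo.add_self_eq_zero _
  obtain ⟨A, hA⟩ := exists_sp hvb hac had hbc hbd hcd
  refine ⟨A, ?_, ?_⟩
  · rw [hA]; simp [e1]
  · rw [hA]; simp [e2]

end Coord

/-! ### Linear case, traces -/

section Lin

/-- a linear similitude with square multiplier is a multiple of a symplectic matrix -/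
theorem exists_of_linear {h : Equiv.Perm (V4 F)} {φ : F ≃+* F} {μ : F} (hμ : μ ≠ 0)
    (hh : IsSemi h φ (μ * μ)) (hφ : ∀ a, φ a = a) :
    ∃ A : Sp4 F, ∀ v, h v = μ • rho 2 F A v := by
  let h' : Equiv.Perm (V4 F) := (MulAction.toPerm (Units.mk0 μ hμ)⁻¹) * h
  have hap : ∀ v, h' v = μ⁻¹ • h v := fun v => rfl
  obtain ⟨A, hA⟩ := exists_rho_eq h' (fun u v => by rw [hap, hap, hap, hh.1, smul_add])
    (fun a v => by
      rw [hap, hap, hh.2.1, smul_comm, hφ])
    (fun u v => by
      have h1 := hh.2.2 u v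
      have h2 : sympForm 2 F (μ⁻¹ • h u) (μ⁻¹ • h v) = μ⁻¹ * (μ⁻¹ * sympForm 2 F (h u) (h v)) := by
        rw [sympForm_smul_left, sympForm_smul_right]
      rw [hap, hap, h2, h1, hφ]
      field_simp)
  refine ⟨A, fun v => ?_⟩
  rw [hA, hap, smul_smul, mul_inv_cancel₀ hμ, one_smul]

/-- the automorphism induced by a multiple of a symplectic matrix is inner -/
theorem conjHom_eq_conj {s : semiSim 2 F} {μ : F} {A : Sp4 F}
    (h : ∀ v, s.1 v = μ • rho 2 F A v) : conjHom 2 F s = MulAut.conj A := by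
  ext1 X
  apply rho_injective
  rw [rho_conjHom, MulAut.conj_apply, map_mul, map_mul]
  have h2 : s.1 * rho 2 F X = rho 2 F A * rho 2 F X * (rho 2 F A)⁻¹ * s.1 := by
    ext1 v
    simp only [Equiv.Perm.mul_apply]
    rw [h, h]
    have h3 : ∀ (B : Sp4 F) (w), rho 2 F B (μ • w) = μ • rho 2 F B w := fun B w =>
      (isSemi_rho B).2.1 μ w
    rw [← map_inv, h3, h3, h3, map_inv, perm_inv_apply_self]
  rw [h2, mul_assoc, mul_inv_cancel, mul_one, map_inv]

theorem exists_conj_of_linear [CharP F 2] [Finite F] {g : semiSim 2 F} {φ : F ≃+* F} {l : F} (hl : l ≠ 0)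
    (hg : IsSemi g.1 φ l) (hφ : ∀ a, φ a = a) :
    ∃ A : Sp4 F, conjHom 2 F g = MulAut.conj A ∧ ∃ μ : F, μ ≠ 0 ∧ ∀ v, g.1 v = μ • rho 2 F A v := by
  have : Fintype F := Fintype.ofFinite F
  obtain ⟨μ, hμl⟩ := FiniteField.isSquare_of_char_two (ringChar.eq F 2) l
  have hμ : μ ≠ 0 := by
    rintro rfl
    exact hl (by rw [hμl, mul_zero])
  rw [hμl] at hg
  obtain ⟨A, hA⟩ := exists_of_linear hμ hg hφ
  exact ⟨A, conjHom_eq_conj hA, μ, hμ, hA⟩

/-- traces of conjugates under semilinear maps -/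
theorem trace_conjHom {g : semiSim 2 F} {φ : F ≃+* F} {l : F} (hg : IsSemi g.1 φ l) (B : Sp4 F) :
    Matrix.trace (conjHom 2 F g B : Matrix I4 I4 F) = φ (Matrix.trace (B : Matrix I4 I4 F)) := by
  classical
  let P : Matrix I4 I4 F := Matrix.of fun i j => g.1 (Pi.single j 1) i
  have hP : ∀ v : I4 → F, g.1 v = P *ᵥ (fun i => φ (v i)) := by
    intro v
    have h1 : v = v (.inl 0) • (Pi.single (.inl 0) 1 : I4 → F) + v (.inl 1) • (Pi.single (.inl 1) 1 : I4 → F) +
        v (.inr 0) • (Pi.single (.inr 0) 1 : I4 → F) + v (.inr 1) • (Pi.single (.inr 1) 1 : I4 → F) := by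
      ext i
      rcases i with i | i <;> fin_cases i <;> simp
    conv_lhs => rw [h1]
    rw [hg.1, hg.1, hg.1, hg.2.1, hg.2.1, hg.2.1, hg.2.1]
    ext i
    simp only [P, Matrix.mulVec, dotProduct, Fintype.sum_sum_type, Fin.sum_univ_two, Matrix.of_apply, Pi.add_apply,
      Pi.smul_apply, smul_eq_mul]
    ring
  have hPu : IsUnit P := by
    rw [← Matrix.mulVec_surjective_iff_isUnit]
    intro w
    obtain ⟨v, rfl⟩ := g.1.surjective w
    exact ⟨_, (hP v).symm⟩
  have hdet : IsUnit P.det := (Matrix.isUnit_iff_isUnit_det P).1 hPu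
  have h2 : (conjHom 2 F g B : Matrix I4 I4 F) * P = P * (B : Matrix I4 I4 F).map φ := by
    rw [← Matrix.mulVec_injective.eq_iff]
    funext w
    rw [← Matrix.mulVec_mulVec, ← Matrix.mulVec_mulVec]
    have h3 : w = fun i => φ ((fun i => φ.symm (w i)) i) := by
      ext i; simp
    have h4 : ∀ v : I4 → F, (B : Matrix I4 I4 F).map φ *ᵥ (fun i => φ (v i)) =
        fun i => φ (((B : Matrix I4 I4 F) *ᵥ v) i) := by
      intro v
      ext i
      simp only [Matrix.mulVec, dotProduct, Matrix.map_apply, map_sum, map_mul]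
    rw [h3, ← hP, h4, ← hP]
    have h5 : rho 2 F (conjHom 2 F g B) (g.1 (fun i => φ.symm (w i))) =
        g.1 (rho 2 F B (fun i => φ.symm (w i))) := by
      rw [rho_conjHom, Equiv.Perm.mul_apply, Equiv.Perm.mul_apply, perm_inv_apply_self]
    exact h5
  have h3 : (conjHom 2 F g B : Matrix I4 I4 F) = P * (B : Matrix I4 I4 F).map φ * P⁻¹ := by
    rw [← h2, Matrix.mul_assoc, Matrix.mul_nonsing_inv _ hdet, Matrix.mul_one]
  rw [h3, Matrix.trace_mul_comm, ← Matrix.mul_assoc, Matrix.nonsing_inv_mul _ hdet, Matrix.one_mul]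
  simp only [Matrix.trace, Matrix.diag, Matrix.map_apply, map_sum]

/-- three conjugates by inner automorphisms kill the semilinear part of `S` -/
def Kill3 (S : Subgroup (MulAut (Sp4 F))) : Prop :=
  ∃ x : Fin 3 → Sp4 F, ∀ α ∈ S, α ∈ (conjHom 2 F).range →
    (∀ i, MulAut.conj (x i) * α * (MulAut.conj (x i))⁻¹ ∈ S) → α = 1

theorem Kill3.mono {S S' : Subgroup (MulAut (Sp4 F))} (h : S ≤ S') (hK : Kill3 S') : Kill3 S := by
  obtain ⟨x, hx⟩ := hK
  exact ⟨x, fun α hα hP hi => hx α (h hα) hP fun i => h (hi i)⟩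

theorem conj_mem_P (A : Sp4 F) : MulAut.conj A ∈ (conjHom 2 F).range := by
  refine ⟨⟨rho 2 F A, RingEquiv.refl F, 1, one_ne_zero, isSemi_rho A⟩, ?_⟩
  exact conjHom_eq_conj (μ := 1) fun v => by rw [one_smul]

/-- `Kill3` is invariant under inner automorphisms. -/
theorem Kill3.conj {S : Subgroup (MulAut (Sp4 F))} (h : Sp4 F)
    (hK : Kill3 (S.map (MulAut.conj (MulAut.conj h)).toMonoidHom)) : Kill3 S := by
  obtain ⟨x, hx⟩ := hK
  have hmem : ∀ β : MulAut (Sp4 F), β ∈ S ↔
      MulAut.conj h * β * (MulAut.conj h)⁻¹ ∈ S.map (MulAut.conj (MulAut.conj h)).toMonoidHom := by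
    intro β
    constructor
    · intro hβ
      exact ⟨β, hβ, rfl⟩
    · rintro ⟨γ, hγ, hγ'⟩
      have h1 : MulAut.conj h * γ * (MulAut.conj h)⁻¹ = MulAut.conj h * β * (MulAut.conj h)⁻¹ := hγ'
      have h2 : γ = β := by
        rw [mul_left_inj, mul_right_inj] at h1
        exact h1
      rwa [← h2]
  refine ⟨fun i => h⁻¹ * x i * h, fun α hα hP hi => ?_⟩
  have h1 := hx (MulAut.conj h * α * (MulAut.conj h)⁻¹) ((hmem α).1 hα)
    (mul_mem (mul_mem (conj_mem_P h) hP) (inv_mem (conj_mem_P h))) fun i => by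
      have h2 := (hmem _).1 (hi i)
      have h3 : MulAut.conj h * (MulAut.conj (h⁻¹ * x i * h) * α * (MulAut.conj (h⁻¹ * x i * h))⁻¹) * (MulAut.conj h)⁻¹ =
          MulAut.conj (x i) * (MulAut.conj h * α * (MulAut.conj h)⁻¹) * (MulAut.conj (x i))⁻¹ := by
        simp only [map_mul, map_inv]
        group
      rwa [h3] at h2
  have h4 : MulAut.conj h * α = MulAut.conj h := by
    rw [mul_inv_eq_one] at h1
    exact h1
  exact mul_eq_left.1 h4

end Lin

end Cfsg.Agent.H319.FC
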