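import Mathlib
import Cfsg.Agent.H319.FC.Sem

/-!
# S5764, SP4G: no inner automorphisms; characteristic two

* `kill3_of_trivial`: `S ∩ Inn = 1`;
* `kill3_of_two`: `S` normalizes a non-trivial elementary abelian 2-subgroup and contains a non-semilinear automorphism.
-/

set_option autoImplicit false

namespace Cfsg.Agent.H319.FC

open Cfsg
open Cfsg.Agent.ClassicalGeometry.SympBasic Cfsg.Agent.ClassicalGeometry.SympAutSemi
open Cfsg.Agent.ClassicalGeometry.Sp4Graph Cfsg.Agent.ClassicalGeometry.Sp4GraphAut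
open scoped Matrix

universe u

variable {F : Type u} [Field F]

/-- an element of `Sp_4` as a semisimilitude -/
def toSemi (A : Sp4 F) : semiSim 2 F := ⟨rho 2 F A, RingEquiv.refl F, 1, one_ne_zero, isSemi_rho A⟩

theorem toSemi_val (A : Sp4 F) : (toSemi A).1 = rho 2 F A := rfl

theorem conjHom_toSemi (A : Sp4 F) : conjHom 2 F (toSemi A) = MulAut.conj A :=
  conjHom_eq_conj (μ := 1) fun v => by rw [one_smul]; rfl

theorem rho_inv_rho (A : Sp4 F) (v : V4 F) : rho 2 F A⁻¹ (rho 2 F A v) = v := by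
  rw [map_inv]; exact perm_inv_apply_self _ _

theorem rho_rho_inv (A : Sp4 F) (v : V4 F) : rho 2 F A (rho 2 F A⁻¹ v) = v := by
  rw [map_inv]; exact perm_apply_inv_self _ _

theorem exists_gen [Finite F] : ∃ ζ : F, ∀ a : F, a ≠ 0 → ∃ k : ℕ, a = ζ ^ k := by
  obtain ⟨z, hz⟩ := IsCyclic.exists_monoid_generator (α := Fˣ)
  refine ⟨z, fun a ha => ?_⟩
  obtain ⟨k, hk⟩ := Submonoid.mem_powers_iff _ _ |>.1 (hz (Units.mk0 a ha))
  refine ⟨k, ?_⟩
  have := congrArg Units.val hk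
  simpa using this.symm

theorem fix_all {φ : F ≃+* F} {ζ : F} (hζ : ∀ a : F, a ≠ 0 → ∃ k : ℕ, a = ζ ^ k) (h : φ ζ = ζ) (a : F) : φ a = a := by
  by_cases ha : a = 0
  · rw [ha, map_zero]
  · obtain ⟨k, rfl⟩ := hζ a ha
    rw [map_pow, h]

/-- rigidity -/
theorem rigid {g : semiSim 2 F} {φ : F ≃+* F} {l : F} (hg : IsSemi g.1 φ l) (hφ : ∀ a, φ a = a) {μ : F}
    (h1 : g.1 (e1 F) = μ • e1 F) (h2 : g.1 (e2 F) = μ • e2 F) (h3 : g.1 (f1 F) = μ • f1 F)
    (h4 : g.1 (f2 F) = μ • f2 F) : conjHom 2 F g = 1 := by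
  have h := conjHom_eq_conj (s := g) (μ := μ) (A := 1) fun v => by
    rw [map_one, Equiv.Perm.one_apply]
    conv_lhs => rw [decomp4 v]
    conv_rhs => rw [decomp4 v]
    rw [hg.1, hg.1, hg.1, hg.2.1, hg.2.1, hg.2.1, hg.2.1, hφ, hφ, hφ, hφ, h1, h2, h3, h4]
    module
  rw [h, map_one]

theorem e1_ne : e1 F ≠ 0 := by
  intro h
  have := congrFun h (.inl 0)
  simp [e1] at this

theorem smul_e1_inj {a b : F} (h : a • e1 F = b • e1 F) : a = b := by
  have := congrFun h (.inl 0)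
  simpa [e1] using this

/-! ### `S ∩ Inn = 1` -/

theorem transv_smul_e1 [CharP F 2] {a c d : F} (h : transv (a • e1 F) c = transv (e1 F) d) : a ^ 2 * c = d := by
  have h1 : rho 2 F (transv (a • e1 F) c) (f1 F) = rho 2 F (transv (e1 F) d) (f1 F) := by rw [h]
  have hf : sympForm 2 F (f1 F) (e1 F) = 1 := by
    rw [sympForm_swap, form_e1_f1]; exact CharTwo.neg_eq 1
  rw [rho_transv, rho_transv, sympForm_smul_right, hf, smul_smul] at h1
  have h2 := smul_e1_inj (add_left_cancel h1)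
  rw [← mul_one d, ← h2]; ring

theorem exists_cyc [CharP F 2] : ∃ n : Sp4 F, rho 2 F n (e1 F) = e2 F ∧ rho 2 F n (e2 F) = f1 F ∧
    rho 2 F n (f1 F) = f2 F ∧ rho 2 F n (f2 F) = e1 F := by
  have hn : ∀ y : F, -y = y := fun y => CharTwo.neg_eq y
  obtain ⟨n, hn'⟩ := exists_sp (a := e2 F) (b := f1 F) (c := f2 F) (d := e1 F) form_e2_f1 form_e2_f2
    (by rw [sympForm_swap, form_e1_e2, neg_zero]) form_f1_f2
    (by rw [sympForm_swap, form_e1_f1, hn]) (by rw [sympForm_swap, form_e1_f2, neg_zero])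
  refine ⟨n, ?_, ?_, ?_, ?_⟩
  · rw [hn']; simp [e1]
  · rw [hn']; simp [e2]
  · rw [hn']; simp [f1]
  · rw [hn']; simp [f2]

theorem commute_of_conjHom {g : semiSim 2 F} {n : Sp4 F} (h : conjHom 2 F g n = n) (v : V4 F) :
    g.1 (rho 2 F n v) = rho 2 F n (g.1 v) := by
  have h1 := rho_conjHom g n
  rw [h] at h1
  conv_rhs => rw [h1]
  rw [Equiv.Perm.mul_apply, Equiv.Perm.mul_apply, perm_inv_apply_self]

/-- **`S ∩ Inn = 1`.** -/
theorem kill3_of_trivial [CharP F 2] [Finite F] {S : Subgroup (MulAut (Sp4 F))}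
    (h0 : ∀ x : Sp4 F, MulAut.conj x ∈ S → x = 1) : Kill3 S := by
  obtain ⟨ζ, hζ⟩ := exists_gen (F := F)
  obtain ⟨n, hn1, hn2, hn3, hn4⟩ := exists_cyc (F := F)
  refine ⟨![n, transv (e1 F) 1, transv (e1 F) ζ], ?_⟩
  rintro α hα ⟨g, rfl⟩ hi
  have h1 : conjHom 2 F g n = n := fix_of_trivial h0 hα (hi 0)
  have h2 : conjHom 2 F g (transv (e1 F) 1) = transv (e1 F) 1 := fix_of_trivial h0 hα (hi 1)
  have h3 : conjHom 2 F g (transv (e1 F) ζ) = transv (e1 F) ζ := fix_of_trivial h0 hα (hi 2)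
  obtain ⟨φ, l, hl, hg⟩ := g.2
  rw [conjHom_transv g hl hg] at h2 h3
  -- `g e₁ = a e₁`
  have h4 : (1 : F) ≠ 0 := one_ne_zero
  have h5 : φ 1 * l⁻¹ ≠ 0 := by rw [map_one, one_mul]; exact inv_ne_zero hl
  have h6 : ∃ a : F, g.1 (e1 F) = a • e1 F := by
    by_contra hcon
    push Not at hcon
    have h7 : ∀ x, rho 2 F (transv (g.1 (e1 F)) (φ 1 * l⁻¹)) x = rho 2 F (transv (e1 F) 1) x := fun x => by rw [h2]
    have hge : g.1 (e1 F) ≠ 0 := by
      intro h
      have h8 : g.1 0 = 0 := by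
        have := hg.2.1 0 0
        rwa [zero_smul, map_zero φ, zero_smul] at this
      exact e1_ne (g.1.injective (h.trans h8.symm))
    obtain ⟨x, hx1, hx2⟩ := Cfsg.Agent.LieClassical.SympSimple.exists_perp_of_not_smul e1_ne hcon
    have h8 := h7 x
    rw [rho_transv, rho_transv] at h8
    have h9 := add_left_cancel h8
    have h10 : sympForm 2 F x (e1 F) = 0 := by rw [sympForm_swap, hx1, neg_zero]
    have h11 : sympForm 2 F x (g.1 (e1 F)) ≠ 0 := by rw [sympForm_swap]; exact neg_ne_zero.2 hx2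
    rw [h10, mul_zero, zero_smul] at h9
    rcases smul_eq_zero.1 h9 with h12 | h12
    · exact mul_ne_zero h5 h11 h12
    · exact hge h12
  obtain ⟨a, ha⟩ := h6
  rw [ha] at h2 h3
  have h7 := transv_smul_e1 h2
  have h8 := transv_smul_e1 h3
  have h9 : φ ζ = ζ := by
    rw [map_one, one_mul] at h7
    have : a ^ 2 * (φ ζ * l⁻¹) = φ ζ * (a ^ 2 * l⁻¹) := by ring
    rw [this, h7, mul_one] at h8
    exact h8
  have hφ := fix_all hζ h9
  have k2 : g.1 (e2 F) = a • e2 F := by rw [← hn1, commute_of_conjHom h1, ha, rho_smul]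
  have k3 : g.1 (f1 F) = a • f1 F := by rw [← hn2, commute_of_conjHom h1, k2, rho_smul]
  have k4 : g.1 (f2 F) = a • f2 F := by rw [← hn3, commute_of_conjHom h1, k3, rho_smul]
  exact rigid hg hφ ha k2 k3 k4

/-! ### Fixed points and lines -/

/-- the semilinear part of `S` fixes the point `⟨v⟩` -/
def FixP (S : Subgroup (MulAut (Sp4 F))) (v : V4 F) : Prop :=
  ∀ g : semiSim 2 F, conjHom 2 F g ∈ S → ∃ a : F, g.1 v = a • v

/-- the semilinear part of `S` fixes `⟨v, b⟩` -/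
def FixL (S : Subgroup (MulAut (Sp4 F))) (v b : V4 F) : Prop :=
  ∀ g : semiSim 2 F, conjHom 2 F g ∈ S → ∀ x ∈ Submodule.span F {v, b}, g.1 x ∈ Submodule.span F {v, b}

theorem fixP_conj {S : Subgroup (MulAut (Sp4 F))} {v : V4 F} (h : FixP S v) (x : Sp4 F) {g : semiSim 2 F}
    (hg : MulAut.conj x * conjHom 2 F g * (MulAut.conj x)⁻¹ ∈ S) :
    ∃ a : F, g.1 (rho 2 F x⁻¹ v) = a • rho 2 F x⁻¹ v := by
  rw [← conjHom_toSemi, ← map_mul, ← map_inv, ← map_mul] at hg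
  obtain ⟨a, ha⟩ := h _ hg
  refine ⟨a, ?_⟩
  have h1 : rho 2 F x (g.1 (rho 2 F x⁻¹ v)) = a • v := by
    rw [← ha]
    change _ = rho 2 F x (g.1 ((rho 2 F x)⁻¹ v))
    rw [map_inv]
  have h2 := congrArg (rho 2 F x⁻¹) h1
  rwa [rho_inv_rho, rho_smul] at h2

theorem fixL_conj {S : Subgroup (MulAut (Sp4 F))} {v b : V4 F} (h : FixL S v b) (x : Sp4 F) {g : semiSim 2 F}
    (hg : MulAut.conj x * conjHom 2 F g * (MulAut.conj x)⁻¹ ∈ S) :
    ∀ y ∈ Submodule.span F {rho 2 F x⁻¹ v, rho 2 F x⁻¹ b}, g.1 y ∈ Submodule.span F {rho 2 F x⁻¹ v, rho 2 F x⁻¹ b} := by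
  rw [← conjHom_toSemi, ← map_mul, ← map_inv, ← map_mul] at hg
  intro y hy
  rw [Submodule.mem_span_pair] at hy ⊢
  obtain ⟨s, t, rfl⟩ := hy
  have h1 := h _ hg (s • v + t • b) (Submodule.mem_span_pair.2 ⟨s, t, rfl⟩)
  rw [Submodule.mem_span_pair] at h1
  obtain ⟨s', t', h1⟩ := h1
  refine ⟨s', t', ?_⟩
  have h2 : rho 2 F x (g.1 (rho 2 F x⁻¹ (s • v + t • b))) = s' • v + t' • b := by
    rw [h1]
    change _ = rho 2 F x (g.1 ((rho 2 F x)⁻¹ _))
    rw [map_inv]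
  have h3 := congrArg (rho 2 F x⁻¹) h2
  rw [rho_inv_rho, rho_add, rho_smul, rho_smul, rho_add, rho_smul, rho_smul] at h3
  exact h3.symm

theorem semi_zero {g : Equiv.Perm (V4 F)} {φ : F ≃+* F} {l : F} (hg : IsSemi g φ l) : g 0 = 0 := by
  have := hg.2.1 0 0
  rwa [zero_smul, map_zero φ, zero_smul] at this

/-- **The stabilizer of the standard flag.** -/
theorem kill3_flag [CharP F 2] [Finite F] {S : Subgroup (MulAut (Sp4 F))} (hP : FixP S (e1 F))
    (hL : FixL S (e1 F) (e2 F)) : Kill3 S := by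
  have hn : ∀ y : F, -y = y := fun y => CharTwo.neg_eq y
  obtain ⟨ζ, hζ⟩ := exists_gen (F := F)
  -- the elements
  obtain ⟨w, hw⟩ := exists_sp (a := f1 F) (b := f2 F) (c := e1 F) (d := e2 F) form_f1_f2
    (by rw [sympForm_swap, form_e1_f1, hn]) (by rw [sympForm_swap, form_e2_f1, neg_zero])
    (by rw [sympForm_swap, form_e1_f2, neg_zero]) (by rw [sympForm_swap, form_e2_f2, hn]) form_e1_e2
  have hw1 : rho 2 F w (e1 F) = f1 F := by rw [hw]; simp [e1]
  have hw2 : rho 2 F w (e2 F) = f2 F := by rw [hw]; simp [e2]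
  have hy0 : e1 F + e2 F + f1 F + f2 F ≠ 0 := by
    intro h
    have := congrFun h (.inl 0)
    simp [e1, e2, f1, f2] at this
  have hz0 : e1 F + ζ • e2 F ≠ 0 := by
    intro h
    have := congrFun h (.inl 0)
    simp [e1, e2] at this
  obtain ⟨y, -, hy⟩ := exists_transvGroup_mulVec_eq (m := 2) e1_ne hy0
  obtain ⟨z, -, hz⟩ := exists_transvGroup_mulVec_eq (m := 2) e1_ne hz0
  have hy' : rho 2 F y (e1 F) = e1 F + e2 F + f1 F + f2 F := hy
  have hz' : rho 2 F z (e1 F) = e1 F + ζ • e2 F := hz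
  refine ⟨![w⁻¹, y⁻¹, z⁻¹], ?_⟩
  rintro α hα ⟨g, rfl⟩ hi
  have i0 := hi 0
  have i1 := hi 1
  have i2 := hi 2
  simp only [Matrix.cons_val_zero, Matrix.cons_val_one, Matrix.cons_val] at i0 i1 i2
  obtain ⟨a, ha⟩ := hP g hα
  have h1 := hL g hα (e2 F) (Submodule.mem_span_pair.2 ⟨0, 1, by rw [zero_smul, one_smul, zero_add]⟩)
  obtain ⟨p, b, hb⟩ := Submodule.mem_span_pair.1 h1
  obtain ⟨c, hc⟩ := fixP_conj hP _ i0
  rw [inv_inv, hw1] at hc
  have h2 := fixL_conj hL _ i0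
  rw [inv_inv, hw1, hw2] at h2
  have h3 := h2 (f2 F) (Submodule.mem_span_pair.2 ⟨0, 1, by rw [zero_smul, one_smul, zero_add]⟩)
  obtain ⟨p', d, hd⟩ := Submodule.mem_span_pair.1 h3
  obtain ⟨s, hs⟩ := fixP_conj hP _ i1
  rw [inv_inv, hy'] at hs
  obtain ⟨r, hr⟩ := fixP_conj hP _ i2
  rw [inv_inv, hz'] at hr
  obtain ⟨φ, l, hl, hg⟩ := g.2
  have hne : ∀ v : V4 F, v ≠ 0 → g.1 v ≠ 0 := fun v hv h => hv (g.1.injective (h.trans (semi_zero hg).symm))
  have ha0 : a ≠ 0 := by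
    rintro rfl
    exact hne _ e1_ne (by rw [ha, zero_smul])
  have hf1 : f1 F ≠ 0 := by
    intro h
    have := congrFun h (.inr 0)
    simp [f1] at this
  have hc0 : c ≠ 0 := by
    rintro rfl
    exact hne _ hf1 (by rw [hc, zero_smul])
  -- `p = 0`
  have hp : p = 0 := by
    have h4 := hg.2.2 (e2 F) (f1 F)
    rw [form_e2_f1, map_zero, mul_zero, ← hb, hc, sympForm_smul_right, sympForm_add_left, sympForm_smul_left,
      sympForm_smul_left, form_e1_f1, form_e2_f1, mul_zero, add_zero, mul_one] at h4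
    exact (mul_eq_zero.1 h4).resolve_left hc0
  have hp' : p' = 0 := by
    have h4 := hg.2.2 (e1 F) (f2 F)
    rw [form_e1_f2, map_zero, mul_zero, ← hd, ha, sympForm_smul_left, sympForm_add_right, sympForm_smul_right,
      sympForm_smul_right, form_e1_f1, form_e1_f2, mul_zero, add_zero, mul_one] at h4
    exact (mul_eq_zero.1 h4).resolve_left ha0
  rw [hp, zero_smul, zero_add] at hb
  rw [hp', zero_smul, zero_add] at hd
  rw [hg.1, hg.1, hg.1, ha, ← hb, hc, ← hd] at hs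
  have s1 := congrFun hs (.inl 0)
  have s2 := congrFun hs (.inl 1)
  have s3 := congrFun hs (.inr 0)
  have s4 := congrFun hs (.inr 1)
  simp [e1, e2, f1, f2] at s1 s2 s3 s4
  rw [hg.1, hg.2.1, ha, ← hb] at hr
  have r1 := congrFun hr (.inl 0)
  have r2 := congrFun hr (.inl 1)
  simp [e1, e2] at r1 r2
  have hφζ : φ ζ = ζ := by
    rw [s2, ← s1, r1] at r2
    have hr0 : r ≠ 0 := by rw [← r1]; exact ha0
    rw [mul_comm] at r2
    exact mul_left_cancel₀ hr0 r2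
  have hφ := fix_all hζ hφζ
  refine rigid hg hφ (μ := s) ?_ ?_ ?_ ?_
  · rw [ha, s1]
  · rw [← hb, s2]
  · rw [hc, s3]
  · rw [← hd, s4]

end Cfsg.Agent.H319.FC
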