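import Mathlib
import Cfsg.Agent.H319.FC.Two

/-!
# S5764, SP4G: points and lines, the case of a normal 2-subgroup
-/

set_option autoImplicit false

namespace Cfsg.Agent.H319.FC

open Cfsg
open Cfsg.Agent.ClassicalGeometry.SympBasic Cfsg.Agent.ClassicalGeometry.SympAutSemi
open Cfsg.Agent.ClassicalGeometry.Sp4Graph Cfsg.Agent.ClassicalGeometry.Sp4GraphAut
open scoped Matrix

universe u

variable {F : Type u} [Field F]

theorem conj_transv' (g : Sp4 F) (v : V4 F) (c : F) : g * transv v c * g⁻¹ = transv (rho 2 F g v) c :=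
  Cfsg.Agent.ClassicalGeometry.SympSiegel.conj_transv g v c

theorem rho_S [CharP F 2] (b : F) (x : V4 F) :
    rho 2 F (S b) x = x + (b * x (.inr 1)) • e1 F + (b * x (.inr 0)) • e2 F := S_mulVec b x

theorem rho_conj_apply {g : semiSim 2 F} {n n' : Sp4 F} (h : conjHom 2 F g n = n') (v : V4 F) :
    g.1 (rho 2 F n v) = rho 2 F n' (g.1 v) := by
  have h1 := rho_conjHom g n
  rw [h] at h1
  rw [h1, Equiv.Perm.mul_apply, Equiv.Perm.mul_apply, perm_inv_apply_self]

theorem e2_ne : e2 F ≠ 0 := by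
  intro h
  have := congrFun h (.inl 1)
  simp [e2] at this

/-- the images of `e₁, e₂` under a semilinear map are independent -/
theorem indep_image {g : Equiv.Perm (V4 F)} {φ : F ≃+* F} {l : F} (hg : IsSemi g φ l) (a : F) :
    g (e2 F) ≠ a • g (e1 F) := by
  intro h
  have h1 : g (e2 F) = g (φ.symm a • e1 F) := by rw [hg.2.1, RingEquiv.apply_symm_apply, h]
  have h2 := congrFun (g.injective h1) (.inl 1)
  simp [e1, e2] at h2

section

variable [CharP F 2]

/-- a semilinear map normalizing the root group `{S c}` preserves `⟨e₁, e₂⟩` -/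
theorem pres_of_S {t : semiSim 2 F} {c d : F} (hc : c ≠ 0) (h : conjHom 2 F t (S c) = S d) :
    t.1 (e1 F) ∈ Submodule.span F {e1 F, e2 F} ∧ t.1 (e2 F) ∈ Submodule.span F {e1 F, e2 F} := by
  obtain ⟨φ, l, hl, ht⟩ := t.2
  have hφc : φ c ≠ 0 := by simpa using hc
  have h1 : ∀ x, (φ c * φ (x (.inr 1))) • t.1 (e1 F) + (φ c * φ (x (.inr 0))) • t.1 (e2 F) =
      (d * (t.1 x) (.inr 1)) • e1 F + (d * (t.1 x) (.inr 0)) • e2 F := by
    intro x
    have h2 := rho_conj_apply h x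
    rw [rho_S, rho_S, ht.1, ht.1, ht.2.1, ht.2.1, add_assoc, add_assoc, map_mul, map_mul] at h2
    exact add_left_cancel h2
  constructor
  · have h2 := h1 (f2 F)
    have h3 : (f2 F) (.inr 1) = 1 := by simp [f2]
    have h4 : (f2 F) (.inr 0) = 0 := by simp [f2]
    rw [h3, h4, map_one, map_zero, mul_one, mul_zero, zero_smul, add_zero] at h2
    have h5 : t.1 (e1 F) = (φ c)⁻¹ • ((d * (t.1 (f2 F)) (.inr 1)) • e1 F + (d * (t.1 (f2 F)) (.inr 0)) • e2 F) := by
      rw [← h2, smul_smul, inv_mul_cancel₀ hφc, one_smul]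
    rw [h5]
    exact Submodule.smul_mem _ _ (Submodule.mem_span_pair.2 ⟨_, _, rfl⟩)
  · have h2 := h1 (f1 F)
    have h3 : (f1 F) (.inr 1) = 0 := by simp [f1]
    have h4 : (f1 F) (.inr 0) = 1 := by simp [f1]
    rw [h3, h4, map_one, map_zero, mul_one, mul_zero, zero_smul, zero_add] at h2
    have h5 : t.1 (e2 F) = (φ c)⁻¹ • ((d * (t.1 (f1 F)) (.inr 1)) • e1 F + (d * (t.1 (f1 F)) (.inr 0)) • e2 F) := by
      rw [← h2, smul_smul, inv_mul_cancel₀ hφc, one_smul]
    rw [h5]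
    exact Submodule.smul_mem _ _ (Submodule.mem_span_pair.2 ⟨_, _, rfl⟩)

/-- recognition of the elements `S d` -/
theorem eq_S {s : Sp4 F} (h1 : ∀ y, ∃ A B : F, rho 2 F s y = y + A • e1 F + B • e2 F)
    (h2 : ∀ y, sympForm 2 F (rho 2 F s y) y = 0) : ∃ d, s = S d := by
  have hn : ∀ y : F, -y = y := fun y => CharTwo.neg_eq y
  choose A B hAB using h1
  have h3 : ∀ y, A y * y (.inr 0) + B y * y (.inr 1) = 0 := by
    intro y
    have h4 := h2 y
    rw [hAB, sympForm_add_left, sympForm_add_left, sympForm_self, sympForm_smul_left, sympForm_smul_left, zero_add,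
      e1, e2, sympForm_single_inl_left, sympForm_single_inl_left, hn, hn] at h4
    exact h4
  have hA : ∀ y, A y = (rho 2 F s y) (.inl 0) + y (.inl 0) := by
    intro y
    have := congrFun (hAB y) (.inl 0)
    simp [e1, e2] at this
    rw [this]
    have h2 : (2 : F) = 0 := CharTwo.two_eq_zero
    linear_combination (-y (.inl 0)) * h2
  have hB : ∀ y, B y = (rho 2 F s y) (.inl 1) + y (.inl 1) := by
    intro y
    have := congrFun (hAB y) (.inl 1)
    simp [e1, e2] at this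
    rw [this]
    have h2 : (2 : F) = 0 := CharTwo.two_eq_zero
    linear_combination (-y (.inl 1)) * h2
  have hAadd : ∀ x y, A (x + y) = A x + A y := by
    intro x y
    rw [hA, hA, hA, rho_add, Pi.add_apply, Pi.add_apply]; ring
  have hBadd : ∀ x y, B (x + y) = B x + B y := by
    intro x y
    rw [hB, hB, hB, rho_add, Pi.add_apply, Pi.add_apply]; ring
  have hAsmul : ∀ (c : F) y, A (c • y) = c * A y := by
    intro c y
    rw [hA, hA, rho_smul, Pi.smul_apply, Pi.smul_apply, smul_eq_mul, smul_eq_mul]; ring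
  have hBsmul : ∀ (c : F) y, B (c • y) = c * B y := by
    intro c y
    rw [hB, hB, rho_smul, Pi.smul_apply, Pi.smul_apply, smul_eq_mul, smul_eq_mul]; ring
  have a3 : A (f1 F) = 0 := by simpa [f1] using h3 (f1 F)
  have a1 : A (e1 F) = 0 := by
    have := h3 (f1 F + e1 F)
    rw [hAadd, a3, zero_add] at this
    simpa [f1, e1] using this
  have a2 : A (e2 F) = 0 := by
    have := h3 (f1 F + e2 F)
    rw [hAadd, a3, zero_add] at this
    simpa [f1, e2] using this
  have b4 : B (f2 F) = 0 := by simpa [f2] using h3 (f2 F)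
  have b1 : B (e1 F) = 0 := by
    have := h3 (f2 F + e1 F)
    rw [hBadd, b4, zero_add] at this
    simpa [f2, e1] using this
  have b2 : B (e2 F) = 0 := by
    have := h3 (f2 F + e2 F)
    rw [hBadd, b4, zero_add] at this
    simpa [f2, e2] using this
  have hab : A (f2 F) = B (f1 F) := by
    have := h3 (f1 F + f2 F)
    rw [hAadd, hBadd, a3, b4, zero_add, add_zero] at this
    have h5 : A (f2 F) + B (f1 F) = 0 := by simpa [f1, f2] using this
    rw [← hn (B (f1 F))]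
    exact eq_neg_of_add_eq_zero_left h5
  refine ⟨A (f2 F), rho_injective ?_⟩
  ext1 y
  rw [rho_S]
  have h6 : A y = A (f2 F) * y (.inr 1) := by
    conv_lhs => rw [decomp4 y]
    rw [hAadd, hAadd, hAadd, hAsmul, hAsmul, hAsmul, hAsmul, a1, a2, a3]; ring
  have h7 : B y = A (f2 F) * y (.inr 0) := by
    conv_lhs => rw [decomp4 y]
    rw [hBadd, hBadd, hBadd, hBsmul, hBsmul, hBsmul, hBsmul, b1, b2, b4, hab]; ring
  rw [hAB, h6, h7]

/-- a semilinear map preserving `⟨e₁, e₂⟩` normalizes the root group `{S c}` -/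
theorem S_of_pres {t : semiSim 2 F} (h1 : t.1 (e1 F) ∈ Submodule.span F {e1 F, e2 F})
    (h2 : t.1 (e2 F) ∈ Submodule.span F {e1 F, e2 F}) (c : F) : ∃ d, conjHom 2 F t (S c) = S d := by
  have hn : ∀ y : F, -y = y := fun y => CharTwo.neg_eq y
  obtain ⟨φ, l, hl, ht⟩ := t.2
  obtain ⟨a, b, hab⟩ := Submodule.mem_span_pair.1 h1
  obtain ⟨a', b', hab'⟩ := Submodule.mem_span_pair.1 h2
  apply eq_S
  · intro y
    obtain ⟨x, rfl⟩ := t.1.surjective y
    rw [← rho_conj_apply rfl x, rho_S, ht.1, ht.1, ht.2.1, ht.2.1, ← hab, ← hab']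
    refine ⟨φ (c * x (.inr 1)) * a + φ (c * x (.inr 0)) * a', φ (c * x (.inr 1)) * b + φ (c * x (.inr 0)) * b', ?_⟩
    module
  · intro y
    obtain ⟨x, rfl⟩ := t.1.surjective y
    rw [← rho_conj_apply rfl x, ht.2.2]
    have h3 : sympForm 2 F (rho 2 F (S c) x) x = 0 := by
      rw [rho_S, sympForm_add_left, sympForm_add_left, sympForm_self, sympForm_smul_left, sympForm_smul_left,
        e1, e2, sympForm_single_inl_left, sympForm_single_inl_left, hn, hn]
      have h2 : (2 : F) = 0 := CharTwo.two_eq_zero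
      linear_combination (c * x (.inr 0) * x (.inr 1)) * h2
    rw [h3, map_zero, mul_zero]

variable [Finite F]

theorem graph_transv (c : F) : graphEquiv F (transv (e1 F) c) = S c := graphHom_transv c

theorem graph_S (c : F) : graphEquiv F (S c) = transv (e1 F) (c ^ 2) := graphHom_S c

/-- normality of `P` -/
theorem conj_mem_S {S' : Subgroup (MulAut (Sp4 F))} (hq : 4 ≤ Nat.card F) {δ : MulAut (Sp4 F)} (hδ : δ ∈ S')
    {g : semiSim 2 F} (hg : conjHom 2 F g ∈ S') :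
    ∃ g' : semiSim 2 F, conjHom 2 F g' ∈ S' ∧ ∀ X, conjHom 2 F g (δ X) = δ (conjHom 2 F g' X) := by
  have hPn : (conjHom 2 F).range.Normal := Subgroup.normal_of_index_eq_two (index_P hq)
  have h1 : δ⁻¹ * conjHom 2 F g * δ⁻¹⁻¹ ∈ (conjHom 2 F).range := hPn.conj_mem _ ⟨g, rfl⟩ _
  obtain ⟨g', hg'⟩ := h1
  rw [inv_inv] at hg'
  refine ⟨g', ?_, fun X => ?_⟩
  · rw [hg']
    exact mul_mem (mul_mem (inv_mem hδ) hg) hδ
  · rw [hg']
    change _ = δ (δ⁻¹ (conjHom 2 F g (δ X)))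
    exact (δ.apply_symm_apply _).symm

/-- **points to lines** -/
theorem line_of_point (hq : 4 ≤ Nat.card F) {S' : Subgroup (MulAut (Sp4 F))} {δ : MulAut (Sp4 F)} (hδ : δ ∈ S')
    (hδP : δ ∉ (conjHom 2 F).range) {v : V4 F} (hv : v ≠ 0) (hP : FixP S' v) :
    ∃ v' b' : V4 F, v' ≠ 0 ∧ (∀ a : F, b' ≠ a • v') ∧ sympForm 2 F v' b' = 0 ∧ FixL S' v' b' := by
  obtain ⟨h, -, hh⟩ := exists_transvGroup_mulVec_eq (m := 2) e1_ne hv
  have hh' : rho 2 F h (e1 F) = v := hh
  have h1 : δ * MulAut.conj h ∉ (conjHom 2 F).range := fun h2 =>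
    hδP ((Subgroup.mul_mem_cancel_right _ (conj_mem_P h)).1 h2)
  obtain ⟨k, hk⟩ := exists_graph hq h1
  have h2 : ∀ c, δ (transv v c) = conjHom 2 F k (S c) := by
    intro c
    have h3 : (δ * MulAut.conj h) (transv (e1 F) c) = δ (transv v c) := by
      rw [← hh', ← conj_transv']; rfl
    rw [← h3, hk]
    change conjHom 2 F k (graphEquiv F (transv (e1 F) c)) = _
    rw [graph_transv]
  obtain ⟨φ, l, hl, hks⟩ := k.2
  refine ⟨k.1 (e1 F), k.1 (e2 F), fun h0 => e1_ne (k.1.injective (h0.trans (semi_zero hks).symm)), indep_image hks, ?_, ?_⟩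
  · rw [hks.2.2, form_e1_e2, map_zero, mul_zero]
  · intro g hg
    obtain ⟨g', hg', hgg'⟩ := conj_mem_S hq hδ hg
    obtain ⟨a, ha⟩ := hP g' hg'
    obtain ⟨φ', l', hl', hs'⟩ := g'.2
    have h3 : conjHom 2 F g (δ (transv v 1)) = δ (transv v (a ^ 2 * (φ' 1 * l'⁻¹))) := by
      rw [hgg', conjHom_transv g' hl' hs', ha]
      congr 1
      apply Subtype.ext
      exact sympTransvection_smul v a _
    rw [h2, h2] at h3
    have h4 : conjHom 2 F (k⁻¹ * g * k) (S 1) = S (a ^ 2 * (φ' 1 * l'⁻¹)) := by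
      rw [map_mul, map_mul, map_inv]
      change (conjHom 2 F k)⁻¹ (conjHom 2 F g (conjHom 2 F k (S 1))) = _
      rw [h3]
      exact (conjHom 2 F k).symm_apply_apply _
    obtain ⟨h5, h6⟩ := pres_of_S one_ne_zero h4
    have h7 : ∀ x : V4 F, (k⁻¹ * g * k).1 x ∈ Submodule.span F {e1 F, e2 F} →
        g.1 (k.1 x) ∈ Submodule.span F {k.1 (e1 F), k.1 (e2 F)} := by
      intro x hx
      obtain ⟨s, t, hst⟩ := Submodule.mem_span_pair.1 hx
      have h8 : k.1 (s • e1 F + t • e2 F) = g.1 (k.1 x) := by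
        rw [hst]
        change k.1 (k.1⁻¹ (g.1 (k.1 x))) = _
        exact perm_apply_inv_self _ _
      rw [← h8, hks.1, hks.2.1, hks.2.1]
      exact Submodule.mem_span_pair.2 ⟨_, _, rfl⟩
    obtain ⟨ψ, m, hm, hgs⟩ := g.2
    intro x hx
    obtain ⟨s, t, rfl⟩ := Submodule.mem_span_pair.1 hx
    rw [hgs.1, hgs.2.1, hgs.2.1]
    exact add_mem (Submodule.smul_mem _ _ (h7 _ h5)) (Submodule.smul_mem _ _ (h7 _ h6))

/-- **lines to points** -/
theorem point_of_line (hq : 4 ≤ Nat.card F) {S' : Subgroup (MulAut (Sp4 F))} {δ : MulAut (Sp4 F)} (hδ : δ ∈ S')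
    (hδP : δ ∉ (conjHom 2 F).range) {v b : V4 F} (hv : v ≠ 0) (hb : ∀ a : F, b ≠ a • v)
    (hvb : sympForm 2 F v b = 0) (hL : FixL S' v b) : ∃ v' : V4 F, v' ≠ 0 ∧ FixP S' v' := by
  obtain ⟨h, hh1, hh2⟩ := exists_ti hv hb hvb
  have h1 : δ * MulAut.conj h ∉ (conjHom 2 F).range := fun h2 =>
    hδP ((Subgroup.mul_mem_cancel_right _ (conj_mem_P h)).1 h2)
  obtain ⟨k, hk⟩ := exists_graph hq h1
  have h2 : ∀ c, δ (h * S c * h⁻¹) = conjHom 2 F k (transv (e1 F) (c ^ 2)) := by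
    intro c
    have h3 : (δ * MulAut.conj h) (S c) = δ (h * S c * h⁻¹) := rfl
    rw [← h3, hk]
    change conjHom 2 F k (graphEquiv F (S c)) = _
    rw [graph_S]
  obtain ⟨φ, l, hl, hks⟩ := k.2
  have hke : k.1 (e1 F) ≠ 0 := fun h0 => e1_ne (k.1.injective (h0.trans (semi_zero hks).symm))
  refine ⟨k.1 (e1 F), hke, ?_⟩
  intro g hg
  obtain ⟨g', hg', hgg'⟩ := conj_mem_S hq hδ hg
  -- `t = h⁻¹ g' h` preserves `⟨e₁, e₂⟩`
  have h3 : ∀ x ∈ Submodule.span F {e1 F, e2 F}, ((toSemi h)⁻¹ * g' * toSemi h).1 x ∈ Submodule.span F {e1 F, e2 F} := by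
    intro x hx
    obtain ⟨s, t, rfl⟩ := Submodule.mem_span_pair.1 hx
    have h4 := hL g' hg' (s • v + t • b) (Submodule.mem_span_pair.2 ⟨s, t, rfl⟩)
    obtain ⟨s', t', h5⟩ := Submodule.mem_span_pair.1 h4
    have h6 : ((toSemi h)⁻¹ * g' * toSemi h).1 (s • e1 F + t • e2 F) = s' • e1 F + t' • e2 F := by
      change (rho 2 F h)⁻¹ (g'.1 (rho 2 F h (s • e1 F + t • e2 F))) = _
      rw [rho_add, rho_smul, rho_smul, hh1, hh2, ← h5, ← map_inv, rho_add, rho_smul, rho_smul, ← hh1, ← hh2, rho_inv_rho,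
        rho_inv_rho]
    rw [h6]
    exact Submodule.mem_span_pair.2 ⟨_, _, rfl⟩
  obtain ⟨d, hd⟩ := S_of_pres (h3 _ (Submodule.mem_span_pair.2 ⟨1, 0, by rw [one_smul, zero_smul, add_zero]⟩))
    (h3 _ (Submodule.mem_span_pair.2 ⟨0, 1, by rw [one_smul, zero_smul, zero_add]⟩)) 1
  have h4 : conjHom 2 F g' (h * S 1 * h⁻¹) = h * S d * h⁻¹ := by
    rw [map_mul, map_mul, map_inv, conjHom_toSemi] at hd
    have h5 : (MulAut.conj h)⁻¹ (conjHom 2 F g' (h * S 1 * h⁻¹)) = S d := hd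
    have h6 := congrArg (MulAut.conj h) h5
    rw [MulAut.conj_apply h (S d)] at h6
    rw [← h6]
    exact ((MulAut.conj h).apply_symm_apply _).symm
  have h5 := hgg' (h * S 1 * h⁻¹)
  rw [h4, h2, h2, conjHom_transv k hl hks, conjHom_transv k hl hks] at h5
  obtain ⟨ψ, m, hm, hgs⟩ := g.2
  rw [conjHom_transv g hm hgs] at h5
  by_contra hcon
  push Not at hcon
  obtain ⟨x, hx1, hx2⟩ := Cfsg.Agent.LieClassical.SympSimple.exists_perp_of_not_smul hke hcon
  have h8 := congrArg (fun X => rho 2 F X x) h5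
  simp only [rho_transv] at h8
  have h9 := add_left_cancel h8
  have h10 : sympForm 2 F x (k.1 (e1 F)) = 0 := by rw [sympForm_swap, hx1, neg_zero]
  have h11 : sympForm 2 F x (g.1 (k.1 (e1 F))) ≠ 0 := by rw [sympForm_swap]; exact neg_ne_zero.2 hx2
  rw [h10, mul_zero, zero_smul] at h9
  have hge : g.1 (k.1 (e1 F)) ≠ 0 := fun h0 => hke (g.1.injective (h0.trans (semi_zero hgs).symm))
  have h12 : ψ (φ (1 ^ 2) * l⁻¹) * m⁻¹ ≠ 0 := by
    refine mul_ne_zero ?_ (inv_ne_zero hm)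
    rw [one_pow, map_one, one_mul]
    simpa using hl
  rcases smul_eq_zero.1 h9 with h13 | h13
  · exact mul_ne_zero h12 h11 h13
  · exact hge h13

end

end Cfsg.Agent.H319.FC
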