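import Mathlib
import Cfsg.Agent.H319.FC.Dual

/-!
# S5764, SP4G: the case of a normal 2-subgroup, final
-/

set_option autoImplicit false

namespace Cfsg.Agent.H319.FC

open Cfsg
open Cfsg.Agent.ClassicalGeometry.SympBasic Cfsg.Agent.ClassicalGeometry.SympAutSemi
open Cfsg.Agent.ClassicalGeometry.Sp4Graph Cfsg.Agent.ClassicalGeometry.Sp4GraphAut
open scoped Matrix

universe u

variable {F : Type u} [Field F]

theorem mem_map_conj {S : Subgroup (MulAut (Sp4 F))} {x : Sp4 F} {g : semiSim 2 F}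
    (hg : conjHom 2 F g ∈ S.map (MulAut.conj (MulAut.conj x)).toMonoidHom) :
    conjHom 2 F ((toSemi x)⁻¹ * g * toSemi x) ∈ S := by
  obtain ⟨γ, hγ, hγ'⟩ := hg
  have h1 : MulAut.conj x * γ * (MulAut.conj x)⁻¹ = conjHom 2 F g := hγ'
  rw [map_mul, map_mul, map_inv, conjHom_toSemi, ← h1]
  have h2 : (MulAut.conj x)⁻¹ * (MulAut.conj x * γ * (MulAut.conj x)⁻¹) * MulAut.conj x = γ := by group
  rwa [h2]

theorem fixP_map {S : Subgroup (MulAut (Sp4 F))} {v : V4 F} (h : FixP S v) (x : Sp4 F) :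
    FixP (S.map (MulAut.conj (MulAut.conj x)).toMonoidHom) (rho 2 F x v) := by
  intro g hg
  obtain ⟨a, ha⟩ := h _ (mem_map_conj hg)
  refine ⟨a, ?_⟩
  have h1 : (rho 2 F x)⁻¹ (g.1 (rho 2 F x v)) = a • v := ha
  have h2 := congrArg (rho 2 F x) h1
  rwa [perm_apply_inv_self, rho_smul] at h2

theorem fixL_map {S : Subgroup (MulAut (Sp4 F))} {v b : V4 F} (h : FixL S v b) (x : Sp4 F) :
    FixL (S.map (MulAut.conj (MulAut.conj x)).toMonoidHom) (rho 2 F x v) (rho 2 F x b) := by
  intro g hg y hy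
  obtain ⟨s, t, rfl⟩ := Submodule.mem_span_pair.1 hy
  have h1 := h _ (mem_map_conj hg) (s • v + t • b) (Submodule.mem_span_pair.2 ⟨s, t, rfl⟩)
  obtain ⟨s', t', h2⟩ := Submodule.mem_span_pair.1 h1
  have h3 : (rho 2 F x)⁻¹ (g.1 (rho 2 F x (s • v + t • b))) = s' • v + t' • b := h2.symm
  have h4 := congrArg (rho 2 F x) h3
  rw [perm_apply_inv_self, rho_add, rho_smul, rho_smul, rho_add, rho_smul, rho_smul] at h4
  rw [h4]
  exact Submodule.mem_span_pair.2 ⟨_, _, rfl⟩

section

variable [CharP F 2] [Finite F]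

/-- a fixed point on the fixed line -/
theorem exists_point_on_line {S : Subgroup (MulAut (Sp4 F))} {p : V4 F} (hp : p ≠ 0) (hP : FixP S p)
    (hL : FixL S (e1 F) (e2 F)) : ∃ w1 w2 : F, w1 • e1 F + w2 • e2 F ≠ 0 ∧ FixP S (w1 • e1 F + w2 • e2 F) := by
  have hn : ∀ y : F, -y = y := fun y => CharTwo.neg_eq y
  have hf : ∀ s t : F, sympForm 2 F p (s • e1 F + t • e2 F) = s * p (.inr 0) + t * p (.inr 1) := by
    intro s t
    rw [sympForm_add_right, sympForm_smul_right, sympForm_smul_right, e1, e2, sympForm_single_inl_right,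
      sympForm_single_inl_right]
  by_cases h0 : p (.inr 0) = 0 ∧ p (.inr 1) = 0
  · refine ⟨p (.inl 0), p (.inl 1), ?_, ?_⟩
    · have h1 := decomp4 p
      rw [h0.1, h0.2, zero_smul, zero_smul, add_zero, add_zero] at h1
      rwa [← h1]
    · have h1 := decomp4 p
      rw [h0.1, h0.2, zero_smul, zero_smul, add_zero, add_zero] at h1
      rwa [← h1]
  · refine ⟨p (.inr 1), p (.inr 0), ?_, ?_⟩
    · intro h
      have h1 := congrFun h (.inl 0)
      have h2 := congrFun h (.inl 1)
      simp [e1, e2] at h1 h2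
      exact h0 ⟨h2, h1⟩
    · intro g hg
      obtain ⟨a, ha⟩ := hP g hg
      have h1 := hL g hg (p (.inr 1) • e1 F + p (.inr 0) • e2 F) (Submodule.mem_span_pair.2 ⟨_, _, rfl⟩)
      obtain ⟨s, t, hst⟩ := Submodule.mem_span_pair.1 h1
      obtain ⟨φ, l, hl, hgs⟩ := g.2
      have ha0 : a ≠ 0 := by
        rintro rfl
        rw [zero_smul] at ha
        exact hp (g.1.injective (ha.trans (semi_zero hgs).symm))
      have h2 := hgs.2.2 p (p (.inr 1) • e1 F + p (.inr 0) • e2 F)
      have h3 : sympForm 2 F p (p (.inr 1) • e1 F + p (.inr 0) • e2 F) = 0 := by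
        rw [hf, mul_comm]
        exact CharTwo.add_self_eq_zero _
      rw [h3, map_zero, mul_zero, ha, sympForm_smul_left, ← hst, hf] at h2
      have h4 := (mul_eq_zero.1 h2).resolve_left ha0
      rw [← hst]
      by_cases h5 : p (.inr 1) = 0
      · have h6 : p (.inr 0) ≠ 0 := fun h => h0 ⟨h, h5⟩
        rw [h5, mul_zero, add_zero] at h4
        have h7 : s = 0 := (mul_eq_zero.1 h4).resolve_right h6
        refine ⟨t * (p (.inr 0))⁻¹, ?_⟩
        rw [h7, h5, zero_smul, zero_add, zero_add, smul_smul, mul_assoc, inv_mul_cancel₀ h6, mul_one]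
      · refine ⟨s * (p (.inr 1))⁻¹, ?_⟩
        have h7 : t = s * (p (.inr 1))⁻¹ * p (.inr 0) := by
          have h8 : t * p (.inr 1) = s * p (.inr 0) := by
            have := eq_neg_of_add_eq_zero_right h4
            rw [this, hn]
          field_simp
          rw [h8]
        rw [smul_add, smul_smul, smul_smul, ← h7, mul_assoc, inv_mul_cancel₀ h5, mul_one]

/-- a fixed point and a fixed line -/
theorem kill3_of_both {S : Subgroup (MulAut (Sp4 F))} {p v b : V4 F} (hp : p ≠ 0) (hP : FixP S p)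
    (hv : v ≠ 0) (hb : ∀ a : F, b ≠ a • v) (hvb : sympForm 2 F v b = 0) (hL : FixL S v b) : Kill3 S := by
  obtain ⟨h, hh1, hh2⟩ := exists_ti hv hb hvb
  apply Kill3.conj h⁻¹
  set S1 := S.map (MulAut.conj (MulAut.conj h⁻¹)).toMonoidHom with hS1
  have hP1 : FixP S1 (rho 2 F h⁻¹ p) := fixP_map hP h⁻¹
  have hL1 : FixL S1 (e1 F) (e2 F) := by
    have := fixL_map hL h⁻¹
    rwa [← hh1, ← hh2, rho_inv_rho, rho_inv_rho] at this
  have hp1 : rho 2 F h⁻¹ p ≠ 0 := by
    intro h0
    apply hp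
    have h2 := congrArg (rho 2 F h) h0
    rw [rho_rho_inv] at h2
    rw [h2]
    exact semi_zero (isSemi_rho h)
  obtain ⟨w1, w2, hw, hwP⟩ := exists_point_on_line hp1 hP1 hL1
  -- a complement
  have hex : ∃ b2 : V4 F, (∀ a : F, b2 ≠ a • (w1 • e1 F + w2 • e2 F)) ∧
      sympForm 2 F (w1 • e1 F + w2 • e2 F) b2 = 0 ∧
      Submodule.span F {w1 • e1 F + w2 • e2 F, b2} = Submodule.span F {e1 F, e2 F} := by
    by_cases h1 : w1 = 0
    · have h2 : w2 ≠ 0 := by
        rintro rfl
        exact hw (by rw [h1, zero_smul, zero_smul, add_zero])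
      refine ⟨e1 F, ?_, ?_, ?_⟩
      · intro a h
        rw [h1, zero_smul, zero_add] at h
        have := congrFun h (.inl 0)
        simp [e1, e2] at this
      · rw [h1, zero_smul, zero_add, sympForm_smul_left, sympForm_swap, form_e1_e2, neg_zero, mul_zero]
      · rw [h1, zero_smul, zero_add]
        apply le_antisymm
        · rw [Submodule.span_le]
          rintro x (rfl | rfl)
          · exact Submodule.mem_span_pair.2 ⟨0, w2, by rw [zero_smul, zero_add]⟩
          · exact Submodule.mem_span_pair.2 ⟨1, 0, by rw [zero_smul, add_zero, one_smul]⟩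
        · rw [Submodule.span_le]
          rintro x (rfl | rfl)
          · exact Submodule.mem_span_pair.2 ⟨0, 1, by rw [zero_smul, zero_add, one_smul]⟩
          · exact Submodule.mem_span_pair.2 ⟨w2⁻¹, 0, by
              rw [zero_smul, add_zero, smul_smul, inv_mul_cancel₀ h2, one_smul]⟩
    · refine ⟨e2 F, ?_, ?_, ?_⟩
      · intro a h
        have h3 := congrFun h (.inl 0)
        have h4 := congrFun h (.inl 1)
        simp [e1, e2] at h3 h4
        rcases h3 with h3 | h3
        · rw [h3, zero_mul] at h4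
          exact one_ne_zero h4
        · exact h1 h3
      · rw [sympForm_add_left, sympForm_smul_left, sympForm_smul_left, form_e1_e2, sympForm_self, mul_zero, mul_zero,
          add_zero]
      · apply le_antisymm
        · rw [Submodule.span_le]
          rintro x (rfl | rfl)
          · exact Submodule.mem_span_pair.2 ⟨w1, w2, rfl⟩
          · exact Submodule.mem_span_pair.2 ⟨0, 1, by rw [zero_smul, zero_add, one_smul]⟩
        · rw [Submodule.span_le]
          rintro x (rfl | rfl)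
          · refine Submodule.mem_span_pair.2 ⟨w1⁻¹, -(w1⁻¹ * w2), ?_⟩
            rw [smul_add, smul_smul, smul_smul, inv_mul_cancel₀ h1, one_smul, neg_smul]
            abel
          · exact Submodule.mem_span_pair.2 ⟨0, 1, by rw [zero_smul, zero_add, one_smul]⟩
  obtain ⟨b2, hb2, hb2', hb2s⟩ := hex
  obtain ⟨h', hh1', hh2'⟩ := exists_ti hw hb2 hb2'
  apply Kill3.conj h'⁻¹
  have hP2 := fixP_map hwP h'⁻¹
  have hL2 : FixL S1 (w1 • e1 F + w2 • e2 F) b2 := by
    intro g hg x hx
    rw [hb2s] at hx ⊢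
    exact hL1 g hg x hx
  have hL3 := fixL_map hL2 h'⁻¹
  rw [← hh1', rho_inv_rho] at hP2
  rw [← hh1', ← hh2', rho_inv_rho, rho_inv_rho] at hL3
  exact kill3_flag hP2 hL3

/-- the common fixed vectors -/
def fixS (A : Subgroup (Sp4 F)) : Submodule F (V4 F) where
  carrier := {v | ∀ a ∈ A, rho 2 F a v = v}
  add_mem' := by
    intro u v hu hv a ha
    rw [rho_add, hu a ha, hv a ha]
  zero_mem' := by
    intro a _
    exact semi_zero (isSemi_rho a)
  smul_mem' := by
    intro c v hv a ha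
    rw [rho_smul, hv a ha]

theorem mem_fixS {A : Subgroup (Sp4 F)} {v : V4 F} : v ∈ fixS A ↔ ∀ a ∈ A, rho 2 F a v = v := Iff.rfl

/-- a totally isotropic invariant vector -/
theorem exists_rad {A : Subgroup (Sp4 F)} (hA : A ≠ ⊥) (hcomm : ∀ a ∈ A, ∀ b ∈ A, a * b = b * a)
    (h2 : ∀ a ∈ A, a ^ 2 = 1) : ∃ u : V4 F, u ≠ 0 ∧ u ∈ fixS A ∧ ∀ w ∈ fixS A, sympForm 2 F u w = 0 := by
  classical
  have hn : ∀ y : F, -y = y := fun y => CharTwo.neg_eq y
  have hnv : ∀ y : V4 F, -y = y := fun y => by ext i; exact hn _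
  -- a vector orthogonal to all fixed vectors
  have hC : fixS A < ⊤ := by
    rw [lt_top_iff_ne_top]
    intro h
    apply hA
    rw [eq_bot_iff]
    intro a ha
    rw [Subgroup.mem_bot]
    apply rho_injective
    ext1 v
    have hv : v ∈ fixS A := by rw [h]; trivial
    rw [map_one]
    exact hv a ha
  obtain ⟨L, hL, hLC⟩ := Submodule.exists_le_ker_of_lt_top _ hC
  obtain ⟨w, hw⟩ : ∃ w : V4 F, ∀ x, sympForm 2 F w x = L x := by
    refine ⟨L (f1 F) • e1 F + L (f2 F) • e2 F + L (e1 F) • f1 F + L (e2 F) • f2 F, fun x => ?_⟩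
    have h3 : L x = x (.inl 0) * L (e1 F) + x (.inl 1) * L (e2 F) + x (.inr 0) * L (f1 F) + x (.inr 1) * L (f2 F) := by
      conv_lhs => rw [decomp4 x]
      simp only [map_add, map_smul, smul_eq_mul]
    rw [h3, sympForm_eq]
    simp [e1, e2, f1, f2]
    ring
  have hw0 : w ≠ 0 := by
    rintro rfl
    apply hL
    refine LinearMap.ext fun x => ?_
    rw [← hw, sympForm_zero_left, LinearMap.zero_apply]
  have hwC : ∀ c ∈ fixS A, sympForm 2 F w c = 0 := fun c hc => by rw [hw]; exact hLC hc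
  -- Finset induction
  have key : ∀ T : Finset (Sp4 F), (∀ a ∈ T, a ∈ A) →
      ∃ u : V4 F, u ≠ 0 ∧ (∀ c ∈ fixS A, sympForm 2 F u c = 0) ∧ ∀ a ∈ T, rho 2 F a u = u := by
    intro T
    induction T using Finset.induction_on with
    | empty => exact fun _ => ⟨w, hw0, hwC, fun a ha => absurd ha (Finset.notMem_empty a)⟩
    | insert b T _ ih =>
      intro hT
      obtain ⟨u, hu0, huC, huT⟩ := ih fun a ha => hT a (Finset.mem_insert_of_mem ha)
      have hb : b ∈ A := hT b (Finset.mem_insert_self b T)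
      by_cases hz : u + rho 2 F b u = 0
      · refine ⟨u, hu0, huC, fun a ha => ?_⟩
        rcases Finset.mem_insert.1 ha with rfl | ha
        · rw [eq_neg_of_add_eq_zero_right hz, hnv]
        · exact huT a ha
      · refine ⟨u + rho 2 F b u, hz, fun c hc => ?_, fun a ha => ?_⟩
        · have h3 : sympForm 2 F (rho 2 F b u) c = 0 := by
            have h4 : rho 2 F b c = c := hc b hb
            rw [← h4, sympForm_rho]
            exact huC c hc
          rw [sympForm_add_left, huC c hc, h3, add_zero]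
        · rcases Finset.mem_insert.1 ha with rfl | ha
          · have h5 : rho 2 F a (rho 2 F a u) = u := by
              rw [← Equiv.Perm.mul_apply, ← map_mul, ← sq, h2 a hb, map_one, Equiv.Perm.one_apply]
            rw [rho_add, h5, add_comm]
          · have h5 : rho 2 F a (rho 2 F b u) = rho 2 F b (rho 2 F a u) := by
              rw [← Equiv.Perm.mul_apply, ← map_mul, hcomm a (hT a (Finset.mem_insert_of_mem ha)) b hb, map_mul,
                Equiv.Perm.mul_apply]
            rw [rho_add, h5, huT a ha]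
  have : Finite (Sp4 F) := inferInstance
  have : Fintype (Sp4 F) := Fintype.ofFinite _
  obtain ⟨u, hu0, huC, huT⟩ := key (Finset.univ.filter fun a => a ∈ A) fun a ha => (Finset.mem_filter.1 ha).2
  exact ⟨u, hu0, fun a ha => huT a (Finset.mem_filter.2 ⟨Finset.mem_univ _, ha⟩), huC⟩

/-- **The case of a normal 2-subgroup.** -/
theorem kill3_of_two (hq : 4 ≤ Nat.card F) {S : Subgroup (MulAut (Sp4 F))} {δ : MulAut (Sp4 F)} (hδ : δ ∈ S)
    (hδP : δ ∉ (conjHom 2 F).range) {A : Subgroup (Sp4 F)} (hA : A ≠ ⊥)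
    (hcomm : ∀ a ∈ A, ∀ b ∈ A, a * b = b * a) (h2 : ∀ a ∈ A, a ^ 2 = 1) (hinv : ∀ α ∈ S, ∀ a ∈ A, α a ∈ A) :
    Kill3 S := by
  obtain ⟨v, hv0, hvC, hvR⟩ := exists_rad hA hcomm h2
  -- invariance of the radical
  have hfix : ∀ g : semiSim 2 F, conjHom 2 F g ∈ S → ∀ c ∈ fixS A, g.1 c ∈ fixS A := by
    intro g hg c hc a ha
    have h3 : (conjHom 2 F g)⁻¹ a ∈ A := hinv _ (inv_mem hg) a ha
    have h4 : conjHom 2 F g ((conjHom 2 F g)⁻¹ a) = a := (conjHom 2 F g).apply_symm_apply a
    have h5 := rho_conj_apply h4 c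
    rw [← h5, hc _ h3]
  have hrad : ∀ g : semiSim 2 F, conjHom 2 F g ∈ S → ∀ u : V4 F, u ∈ fixS A → (∀ w ∈ fixS A, sympForm 2 F u w = 0) →
      g.1 u ∈ fixS A ∧ ∀ w ∈ fixS A, sympForm 2 F (g.1 u) w = 0 := by
    intro g hg u hu hu'
    refine ⟨hfix g hg u hu, fun w hw => ?_⟩
    have h3 : (g⁻¹).1 w ∈ fixS A := hfix g⁻¹ (by rw [map_inv]; exact inv_mem hg) w hw
    obtain ⟨φ, l, hl, hgs⟩ := g.2
    have h4 : g.1 ((g⁻¹).1 w) = w := perm_apply_inv_self g.1 w
    rw [← h4, hgs.2.2, hu' _ h3, map_zero, mul_zero]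
  by_cases hdim : ∀ x : V4 F, x ∈ fixS A → (∀ w ∈ fixS A, sympForm 2 F x w = 0) → ∃ a : F, x = a • v
  · -- a point
    have hP : FixP S v := fun g hg => hdim _ (hrad g hg v hvC hvR).1 (hrad g hg v hvC hvR).2
    obtain ⟨v', b', hv', hb', hvb', hL⟩ := line_of_point hq hδ hδP hv0 hP
    exact kill3_of_both hv0 hP hv' hb' hvb' hL
  · -- a line
    push Not at hdim
    obtain ⟨b, hbC, hbR, hb⟩ := hdim
    have hvb : sympForm 2 F v b = 0 := hvR b hbC
    obtain ⟨h, hh1, hh2⟩ := exists_ti hv0 hb hvb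
    have hspan : ∀ x : V4 F, x ∈ fixS A → (∀ w ∈ fixS A, sympForm 2 F x w = 0) → x ∈ Submodule.span F {v, b} := by
      intro x _ hx'
      have h3 : sympForm 2 F (rho 2 F h⁻¹ x) (e1 F) = 0 := by
        rw [← sympForm_rho h, rho_rho_inv, hh1]; exact hx' v hvC
      have h4 : sympForm 2 F (rho 2 F h⁻¹ x) (e2 F) = 0 := by
        rw [← sympForm_rho h, rho_rho_inv, hh2]; exact hx' b hbC
      rw [e1, sympForm_single_inl_right] at h3
      rw [e2, sympForm_single_inl_right] at h4
      have h5 := decomp4 (rho 2 F h⁻¹ x)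
      rw [h3, h4, zero_smul, zero_smul, add_zero, add_zero] at h5
      have h6 := congrArg (rho 2 F h) h5
      rw [rho_rho_inv, rho_add, rho_smul, rho_smul, hh1, hh2] at h6
      rw [h6]
      exact Submodule.mem_span_pair.2 ⟨_, _, rfl⟩
    have hL : FixL S v b := by
      intro g hg x hx
      obtain ⟨s, t, rfl⟩ := Submodule.mem_span_pair.1 hx
      have h3 : s • v + t • b ∈ fixS A := add_mem (Submodule.smul_mem _ _ hvC) (Submodule.smul_mem _ _ hbC)
      have h4 : ∀ w ∈ fixS A, sympForm 2 F (s • v + t • b) w = 0 := by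
        intro w hw
        rw [sympForm_add_left, sympForm_smul_left, sympForm_smul_left, hvR w hw, hbR w hw, mul_zero, mul_zero, add_zero]
      have h5 := hrad g hg _ h3 h4
      exact hspan _ h5.1 h5.2
    obtain ⟨v', hv', hP⟩ := point_of_line hq hδ hδP hv0 hb hvb hL
    exact kill3_of_both hv' hP hv0 hb hvb hL

end

end Cfsg.Agent.H319.FC
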