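import Mathlib
import Cfsg.Agent.H319.FC.RTwo
import Cfsg.Agent.H88.FC.ThreeOdd
import Cfsg.Agent.H545.FC.NoInv

/-!
# S5764, SP4G: assembly
-/

set_option autoImplicit false

namespace Cfsg.Agent.H319.FC

open Cfsg
open Cfsg.Agent.ClassicalGeometry.SympBasic Cfsg.Agent.ClassicalGeometry.SympAutSemi
open Cfsg.Agent.ClassicalGeometry.Sp4Graph Cfsg.Agent.ClassicalGeometry.Sp4GraphAut

universe u

variable {F : Type u} [Field F] [CharP F 2] [Finite F]

/-- the statement for subgroups of `Aut(Sp_4(F))` -/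
theorem kill3 (hq : 4 ≤ Nat.card F) {f : ℕ} (hf : Nat.card F = 2 ^ f) (hodd : Odd f) {S : Subgroup (MulAut (Sp4 F))}
    (hS : Group.IsSolvable S) {δ : MulAut (Sp4 F)} (hδ : δ ∈ S) (hδP : δ ∉ (conjHom 2 F).range) : Kill3 S := by
  by_cases h0 : ∀ x : Sp4 F, MulAut.conj x ∈ S → x = 1
  · exact kill3_of_trivial h0
  · push Not at h0
    obtain ⟨r, A, hr, hA, -, hcomm, hpow, hinv⟩ := exists_elab hS center_sp h0
    by_cases hr2 : r = 2
    · subst hr2
      exact kill3_of_two hq hδ hδP hA hcomm hpow hinv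
    · exact Cfsg.Agent.H88.FC.kill3_odd hq (fun x hx => Cfsg.Agent.H88.FC.cube_of_odd hf hodd x hx)
        (fun h => hδP (h hδ)) (hr.odd_of_ne_two hr2) A hA hcomm hpow hinv

/-- transfer from `Sp_4(F)` to `PSp_4(F)` -/
theorem transfer {S : Subgroup (MulAut (PSp 2 F))} (h : Five4 (S.comap (congE F).toMonoidHom)) :
    ∃ x : Fin 4 → PSp 2 F, ∀ α ∈ S, (∀ i, MulAut.conj (x i) * α * (MulAut.conj (x i))⁻¹ ∈ S) → α = 1 := by
  obtain ⟨x, hx⟩ := h
  refine ⟨fun i => mkE F (x i), fun α hα hi => ?_⟩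
  obtain ⟨β, rfl⟩ := (congE F).surjective α
  have h1 := hx β hα fun i => by
    rw [Subgroup.mem_comap]
    have h2 := hi i
    rw [← congE_conj, ← map_mul, ← map_inv, ← map_mul] at h2
    exact h2
  rw [h1, map_one]

/-- transfer from `PSp_4(F)` to `Sp_4(F)` -/
theorem transfer' {S : Subgroup (MulAut (PSp 2 F))}
    (h : ∃ x : Fin 4 → PSp 2 F, ∀ α ∈ S, (∀ i, MulAut.conj (x i) * α * (MulAut.conj (x i))⁻¹ ∈ S) → α = 1) :
    Five4 (S.comap (congE F).toMonoidHom) := by
  obtain ⟨x, hx⟩ := h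
  refine ⟨fun i => (mkE F).symm (x i), fun α hα hi => ?_⟩
  apply (congE F).injective
  rw [map_one]
  refine hx _ hα fun i => ?_
  have h2 : congE F (MulAut.conj ((mkE F).symm (x i)) * α * (MulAut.conj ((mkE F).symm (x i)))⁻¹) ∈ S := hi i
  rw [map_mul, map_mul, map_inv, congE_conj, MulEquiv.apply_symm_apply] at h2
  exact h2

/-- **SP4G.** -/
theorem sp4g (hq : 4 ≤ Nat.card F)
    (hB : ∀ S : Subgroup (MulAut (PSp 2 F)), Group.IsSolvable S → S ≤ (Psi 2 F).range →
      ∃ x : Fin 4 → PSp 2 F, ∀ α ∈ S, (∀ i, MulAut.conj (x i) * α * (MulAut.conj (x i))⁻¹ ∈ S) → α = 1) :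
    Cfsg.Agent.H198.FC.FiveAut (PSp 2 F) := by
  intro S hS
  have hsimple := simple_sp hq
  have hns := not_solvable_sp hq
  have hSs : Group.IsSolvable (S.comap (congE F).toMonoidHom) := by
    let f : S.comap (congE F).toMonoidHom →* S :=
      { toFun := fun x => ⟨congE F x.1, x.2⟩
        map_one' := by ext1; exact map_one _
        map_mul' := fun x y => by ext1; exact map_mul _ x.1 y.1 }
    have hf : Function.Injective f := by
      intro x y hxy
      exact Subtype.ext ((congE F).injective (congrArg Subtype.val hxy))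
    exact Group.isSolvable_of_isSolvable_injective hf
  obtain ⟨f, -, hf⟩ : ∃ (n : ℕ), 0 < n ∧ Nat.card F = 2 ^ n := by
    have : Fintype F := Fintype.ofFinite F
    have : Fact (Nat.Prime 2) := ⟨Nat.prime_two⟩
    obtain ⟨n, -, hn⟩ := FiniteField.card F 2
    exact ⟨n, n.2, by rw [Nat.card_eq_fintype_card, hn]⟩
  by_cases hev : Even f
  · -- `f` even
    apply transfer
    have h1 : Five4 ((S ⊓ (Psi 2 F).range).comap (congE F).toMonoidHom) := by
      refine transfer' (hB _ ?_ inf_le_right)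
      exact Group.isSolvable_of_isSolvable_injective (f := Subgroup.inclusion (inf_le_left : S ⊓ (Psi 2 F).range ≤ S))
        (Subgroup.inclusion_injective _)
    have h2 : (S ⊓ (Psi 2 F).range).comap (congE F).toMonoidHom =
        S.comap (congE F).toMonoidHom ⊓ (conjHom 2 F).range := by
      rw [Subgroup.comap_inf, ← range_eq_comap]
    rw [h2] at h1
    exact four_of_four (conjHom 2 F).range (index_P hq)
      (fun α hα => Cfsg.Agent.H545.FC.no_graph_inv f hf hev α hα) h1
  · -- `f` odd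
    have hodd : Odd f := Nat.not_even_iff_odd.1 hev
    by_cases hle : S ≤ (Psi 2 F).range
    · exact hB S hS hle
    · apply transfer
      obtain ⟨δ, hδ, hδP⟩ := SetLike.not_le_iff_exists.1 hle
      obtain ⟨δ', rfl⟩ := (congE F).surjective δ
      have hδ'P : δ' ∉ (conjHom 2 F).range := fun h => hδP ((congE_mem_range δ').2 h)
      obtain ⟨x, hx⟩ := kill3 hq hf hodd hSs (δ := δ') hδ hδ'P
      exact four_of_three hns center_sp _ (index_P hq) hSs x hx

end Cfsg.Agent.H319.FC
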