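import Cfsg.Agent.H319.FC.Fin
import Cfsg.Agent.H214.FC.AutSp

/-!
# S5764: `ThmB → StmtSp4G`
-/

set_option autoImplicit false

namespace Cfsg.Agent.H319.FC

/-- **SP4G.** -/
theorem stmtSp4G (hB : Cfsg.Agent.H198.FC.ThmB.{0, 0}) : Cfsg.Agent.H198.FC.StmtSp4G :=
  Cfsg.Agent.H214.FC.stmtSp4G_of hB fun F _ _ _ hq h => sp4g hq h

end Cfsg.Agent.H319.FC
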